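import Mathlib

/-!
# The finite arithmetic check
-/

set_option autoImplicit false

namespace CfsgLib.Recognition.SelfCentSystem

/-- A Bézout coefficient of `a` modulo `N`, computed with fuel. -/
def bez : ℕ → ℤ → ℤ → ℤ → ℤ → ℤ
  | 0, _, _, s, _ => s
  | k + 1, r, r', s, s' => if r' = 0 then s else bez k r' (r % r') s' (s - r / r' * s')

/-- A candidate inverse of `a` modulo `N`. -/
def inv' (a N : ℕ) : ℕ := ((bez 48 (a % N : ℕ) N 1 0) % (N : ℤ)).toNat

/-- No order of the shape `(M₀ + j N) N` survives. -/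
def caseOk (v τ n₁ n₂ n₃ m : ℕ) : Bool :=
  let N := n₁ * n₂ * n₃
  let L := 2 * n₂ * n₃ + n₁ * n₃ + n₁ * n₂
  let x := inv' L N
  (L * x % N == 1) && (List.range 4).all fun j =>
    let M := 4 * x % N + j * N
    !(v * N < M && M ≤ 3 * N && M % 4 == 0 && M * L % (4 * N) == 4 && m * M ≤ τ * τ * N
      && (τ - v) * (τ - v) * N ≤ (m + 3) * (M - v * N) && (v == 2 || M % τ == 0))

/-- The whole table. -/
def tableOk : Bool :=
  (List.range 3).all fun v => v == 0 || (List.range 9).all fun τ =>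
    τ ≤ v || (v == 1 && τ % 2 == 0) || (List.range 18).all fun a => (List.range (18 - a)).all fun b =>
      (List.range (18 - a - b)).all fun c =>
        let m := a + b + c + 6
        let n₁ := 2 * (a + 2) + 1
        let n₂ := 4 * (b + 2) + 1
        let n₃ := 4 * (c + 2) + 1
        ((m + 3) * (3 - v) < (τ - v) * (τ - v))
          || ((m + 3) * τ * τ < (τ - v) * (τ - v) * m + (m + 3) * m * v)
          || Nat.gcd n₁ n₂ != 1 || Nat.gcd n₁ n₃ != 1 || Nat.gcd n₂ n₃ != 1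
          || caseOk v τ n₁ n₂ n₃ m

theorem tableOk_eq : tableOk = true := by decide +kernel

theorem bound_one {m u : ℕ} (h1 : u * u ≤ 2 * (m + 3))
    (h2 : u * u * m + (m + 3) * m * 1 ≤ (m + 3) * ((u + 1) * (u + 1))) : m ≤ 21 := by
  by_contra h
  push Not at h
  have h3 : 12 * u ≤ 2 * m + 42 := by nlinarith [sq_nonneg ((u : ℤ) - 6)]
  nlinarith [Nat.mul_le_mul_left (2 * m + 6) h3, Nat.mul_le_mul_left m h]

theorem bound_two {m u : ℕ} (h1 : u * u ≤ m + 3)
    (h2 : u * u * m + (m + 3) * m * 2 ≤ (m + 3) * ((u + 2) * (u + 2))) : m ≤ 21 := by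
  by_contra h
  push Not at h
  have h3 : 10 * u ≤ m + 28 := by nlinarith [sq_nonneg ((u : ℤ) - 5)]
  nlinarith [Nat.mul_le_mul_left (4 * m + 12) h3, Nat.mul_le_mul_left m h]

/-- The counting conditions have no solution. -/
theorem no_solution {n₁ n₂ n₃ m₁ m₂ m₃ m M τ s v : ℕ}
    (e₁ : n₁ = 2 * m₁ + 1) (e₂ : n₂ = 4 * m₂ + 1) (e₃ : n₃ = 4 * m₃ + 1)
    (hm₁ : 2 ≤ m₁) (hm₂ : 2 ≤ m₂) (hm₃ : 2 ≤ m₃) (hm : m = m₁ + m₂ + m₃)
    (c₁₂ : Nat.Coprime n₁ n₂) (c₁₃ : Nat.Coprime n₁ n₃) (c₂₃ : Nat.Coprime n₂ n₃)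
    (hv : v = 1 ∨ v = 2)
    (hlo : v * (n₁ * n₂ * n₃) < M) (hhi : M ≤ 3 * (n₁ * n₂ * n₃)) (h4 : 4 ∣ M)
    (hcong : M * (2 * n₂ * n₃ + n₁ * n₃ + n₁ * n₂) = 4 + 4 * s * (n₁ * n₂ * n₃))
    (hpairs : m * M ≤ τ * τ * (n₁ * n₂ * n₃))
    (hFS : v < τ →
      (τ - v) * (τ - v) * (n₁ * n₂ * n₃) ≤ (m + 3) * (M - v * (n₁ * n₂ * n₃)))
    (hone : v = 1 → τ % 2 = 1 ∧ τ ∣ M) : False := by
  set N := n₁ * n₂ * n₃ with hN
  have hNpos : 0 < N := by rw [hN, e₁, e₂, e₃]; positivity
  have hτv : v < τ := by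
    by_contra h
    push Not at h
    have h1 : τ * τ * N ≤ v * v * N := Nat.mul_le_mul_right N (Nat.mul_le_mul h h)
    have h2 : m * (v * N) < v * v * N :=
      lt_of_lt_of_le ((Nat.mul_lt_mul_left (show 0 < m by omega)).2 hlo) (hpairs.trans h1)
    have h3 : m < v := by
      by_contra h'
      push Not at h'
      have := Nat.mul_le_mul_right (v * N) h'
      rw [← mul_assoc v v N] at this
      omega
    omega
  obtain ⟨u, rfl⟩ := Nat.exists_eq_add_of_le hτv.le
  have hFS' := hFS hτv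
  rw [Nat.add_sub_cancel_left] at hFS'
  have h1 : u * u ≤ (m + 3) * (3 - v) := by
    refine Nat.le_of_mul_le_mul_right (le_trans hFS' ?_) hNpos
    rw [mul_assoc, Nat.sub_mul]
    exact Nat.mul_le_mul_left _ (Nat.sub_le_sub_right hhi _)
  have h2 : u * u * m + (m + 3) * m * v ≤ (m + 3) * ((v + u) * (v + u)) := by
    refine Nat.le_of_mul_le_mul_right ?_ hNpos
    have e : (m + 3) * (M - v * N) * m + (m + 3) * m * (v * N) = (m + 3) * (m * M) := by
      conv_rhs => rw [← Nat.sub_add_cancel hlo.le]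
      ring
    have h3 := Nat.mul_le_mul_right m hFS'
    have h4 := Nat.mul_le_mul_left (m + 3) hpairs
    calc (u * u * m + (m + 3) * m * v) * N = u * u * N * m + (m + 3) * m * (v * N) := by ring
      _ ≤ (m + 3) * (M - v * N) * m + (m + 3) * m * (v * N) := by omega
      _ ≤ (m + 3) * ((v + u) * (v + u) * N) := by omega
      _ = _ := by ring
  have hm21 : m ≤ 21 := by
    rcases hv with rfl | rfl
    · exact bound_one (by simpa [mul_comm] using h1) (by rwa [add_comm 1 u] at h2)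
    · exact bound_two (by simpa using h1) (by rwa [add_comm 2 u] at h2)
  have hu : v + u < 9 := by
    rcases hv with rfl | rfl
    · have hu7 : u * u < 8 * 8 := by simp at h1; omega
      have := Nat.mul_self_lt_mul_self_iff.1 hu7
      by_contra h
      have : u = 8 := by omega
      omega
    · have hu7 : u * u < 6 * 6 := by simp at h1; omega
      have := Nat.mul_self_lt_mul_self_iff.1 hu7
      omega
  have h := tableOk_eq
  simp only [tableOk, List.all_eq_true, List.mem_range, Bool.or_eq_true, beq_iff_eq,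
    decide_eq_true_eq, bne_iff_ne, Bool.and_eq_true] at h
  have h' := ((h v (by omega)).resolve_left (by omega)) (v + u) hu
  rcases h' with (h' | ⟨hv1, hpar⟩) | h'
  · omega
  · have := (hone hv1).1
    omega
  have := h' (m₁ - 2) (by omega) (m₂ - 2) (by omega) (m₃ - 2) (by omega)
  rw [show 2 * (m₁ - 2 + 2) + 1 = n₁ by omega, show 4 * (m₂ - 2 + 2) + 1 = n₂ by omega,
    show 4 * (m₃ - 2 + 2) + 1 = n₃ by omega, show m₁ - 2 + (m₂ - 2) + (m₃ - 2) + 6 = m by omega,
    Nat.add_sub_cancel_left] at this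
  rcases this with ((((h3 | h3) | h3) | h3) | h3) | h3
  · omega
  · rw [mul_assoc (m + 3)] at h3; omega
  · exact h3 c₁₂
  · exact h3 c₁₃
  · exact h3 c₂₃
  simp only [caseOk, Bool.and_eq_true, beq_iff_eq, List.all_eq_true, List.mem_range,
    Bool.not_eq_true', Bool.and_eq_false_iff, decide_eq_false_iff_not, Bool.or_eq_false_iff,
    beq_eq_false_iff_ne] at h3
  rw [← hN] at h3
  obtain ⟨hx, hall⟩ := h3
  set L := 2 * n₂ * n₃ + n₁ * n₃ + n₁ * n₂ with hL
  set x := inv' L N with hxdef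
  have hmod : M % N = 4 * x % N := by
    have e1 : M * L * x % N = 4 * x % N := by
      rw [Nat.mul_mod, hcong, Nat.add_mul_mod_self_right, ← Nat.mul_mod]
    rw [mul_assoc, Nat.mul_mod, hx, mul_one, Nat.mod_mod] at e1
    exact e1
  have hj : M / N < 4 := by
    rw [Nat.div_lt_iff_lt_mul hNpos]; omega
  have h5 := hall (M / N) hj
  rw [show 4 * x % N + M / N * N = M by rw [← hmod, mul_comm]; exact Nat.mod_add_div M N] at h5
  have hmod4 : M * L % (4 * N) = 4 := by
    rw [hcong, mul_assoc 4 s N, show 4 * (s * N) = 4 * N * s by ring, Nat.add_mul_mod_self_left,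
      Nat.mod_eq_of_lt]
    have : 5 * 9 * 9 ≤ N := by
      rw [hN, e₁, e₂, e₃]; gcongr <;> omega
    omega
  rcases h5 with (((((h5 | h5) | h5) | h5) | h5) | h5) | ⟨hv2, h5⟩
  · exact h5 hlo
  · exact h5 hhi
  · exact h5 (Nat.mod_eq_zero_of_dvd h4)
  · exact h5 hmod4
  · exact h5 hpairs
  · exact h5 (by rwa [Nat.add_sub_cancel_left])
  · rcases hv with rfl | rfl
    · exact h5 (Nat.mod_eq_zero_of_dvd (hone rfl).2)
    · exact hv2 rfl

end CfsgLib.Recognition.SelfCentSystem
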