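import Cfsg.Agent.Lib.Recognition.SelfCentSystem.Local
import Cfsg.Agent.Lib.Char.FS

/-!
# Classes and involutions of a group with strongly self-centralising subgroups
-/

set_option autoImplicit false
set_option linter.style.haveILetI false

open scoped ComplexConjugate

namespace CfsgLib.Recognition.SelfCentSystem

open CfsgLib.Char
open CfsgLib.Char.TICover (InD Setting)

variable {G : Type*} [Group G]

/-- A set of elements stable under conjugation, as a finset, has size divisible by `d` when all
its class sizes are. -/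
theorem dvd_card_of_invariant [Fintype G] (s : Finset G)
    (hs : ∀ x y : G, x ∈ s → IsConj x y → y ∈ s) {d : ℕ}
    (hd : ∀ x ∈ s, d ∣ Nat.card {y : G // IsConj y x}) : d ∣ s.card := by
  classical
  rw [Finset.card_eq_sum_card_image ConjClasses.mk s]
  refine Finset.dvd_sum fun C hC => ?_
  obtain ⟨x, hx, rfl⟩ := Finset.mem_image.1 hC
  have e : (s.filter fun y => ConjClasses.mk y = ConjClasses.mk x) =
      Finset.univ.filter fun y => IsConj y x := by
    ext y
    simp only [Finset.mem_filter, ConjClasses.mk_eq_mk_iff_isConj, Finset.mem_univ, true_and]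
    exact ⟨fun h => h.2, fun h => ⟨hs x y hx h.symm, h⟩⟩
  rw [e, ← Fintype.card_subtype, ← Nat.card_eq_fintype_card]
  exact hd x hx

variable [Fintype G] [DecidableEq G]

omit [Group G] [Fintype G] [DecidableEq G] in
theorem card_eq_mul_card_image {α β : Type*} [DecidableEq β] (s : Finset α) (f : α → β) (k : ℕ)
    (h : ∀ b ∈ s.image f, (s.filter fun a => f a = b).card = k) :
    s.card = (s.image f).card * k := by
  rw [Finset.card_eq_sum_card_image f s, Finset.sum_congr rfl h, Finset.sum_const, smul_eq_mul]

/-- The involutions. -/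
noncomputable def invols (G : Type*) [Group G] [Fintype G] [DecidableEq G] : Finset G :=
  Finset.univ.filter fun x => orderOf x = 2

omit [Fintype G] [DecidableEq G] in
theorem invols_conj {x y : G} (hx : orderOf x = 2) (h : IsConj x y) : orderOf y = 2 := by
  obtain ⟨c, hc⟩ := isConj_iff.1 h
  rw [← hc, ← hx]
  simpa using orderOf_injective (MulAut.conj c).toMonoidHom (MulAut.conj c).injective x

variable {A : Subgroup G} {e : ℕ}

omit [DecidableEq G] in
theorem SSC.classes_card (h : SSC A e) (he : e ≠ 1) [DecidablePred (InD A)] [DecidableEq (ConjClasses G)] :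
    ((Finset.univ.filter (InD A)).image ConjClasses.mk).card * e = Nat.card A - 1 ∧
    (Finset.univ.filter (InD A)).card * Nat.card A =
      ((Finset.univ.filter (InD A)).image ConjClasses.mk).card * Nat.card G := by
  classical
  have S := h.setting he
  set L := Subgroup.normalizer (A : Set G) with hL
  haveI : Fintype L := Fintype.ofFinite _
  haveI : Fintype A := Fintype.ofFinite _
  set C := (Finset.univ.filter (InD A)).image ConjClasses.mk with hC
  set A' := (Finset.univ.filter fun a : A => a ≠ 1) with hA'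
  have hcardL : Nat.card L = e * Nat.card A := by
    rw [← h.idx, ← Subgroup.relIndex_bot_left L, ← Subgroup.relIndex_bot_left A, mul_comm]
    exact (Subgroup.relIndex_mul_relIndex ⊥ A _ bot_le Subgroup.le_normalizer).symm
  have hne : ∀ a : A, a ≠ 1 → (a : G) ≠ 1 := fun a ha e => ha (Subtype.ext e)
  have himg : A'.image (fun a : A => ConjClasses.mk (a : G)) = C := by
    ext c
    simp only [hC, hA', Finset.mem_image, Finset.mem_filter, Finset.mem_univ, true_and]
    constructor
    · rintro ⟨a, ha, rfl⟩
      exact ⟨(a : G), ⟨hne a ha, 1, by simp⟩, rfl⟩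
    · rintro ⟨y, ⟨hy1, x, hx⟩, rfl⟩
      refine ⟨⟨_, hx⟩, fun e => hy1 ?_, ConjClasses.mk_eq_mk_iff_isConj.2 ?_⟩
      · have e' : x⁻¹ * y * x = 1 := congrArg Subtype.val e
        calc y = x * (x⁻¹ * y * x) * x⁻¹ := by group
          _ = 1 := by rw [e']; group
      · exact isConj_iff.2 ⟨x, by group⟩
  refine ⟨?_, ?_⟩
  · have hA'card : A'.card = Nat.card A - 1 := by
      rw [hA', Finset.filter_ne', Finset.card_erase_of_mem (Finset.mem_univ _), Finset.card_univ,
        Nat.card_eq_fintype_card]
    suffices hk : ∀ c ∈ A'.image (fun a : A => ConjClasses.mk (a : G)),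
        (A'.filter fun a : A => ConjClasses.mk (a : G) = c).card = e by
      rw [← hA'card, card_eq_mul_card_image A' (fun a : A => ConjClasses.mk (a : G)) e hk, himg]
    intro c hc
    obtain ⟨a, ha, rfl⟩ := Finset.mem_image.1 hc
    simp only [hA', Finset.mem_filter, Finset.mem_univ, true_and] at ha
    set F := A'.filter fun b : A => ConjClasses.mk (b : G) = ConjClasses.mk (a : G) with hF
    have hmaps : ∀ x ∈ (Finset.univ : Finset L), S.conjH x a ∈ F := fun x _ => by
      simp only [hF, hA', Finset.mem_filter, Finset.mem_univ, true_and]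
      exact ⟨S.conjH_ne_one x ha, ConjClasses.mk_eq_mk_iff_isConj.2
        (isConj_iff.2 ⟨x, by rw [Setting.conjH_apply]; group⟩)⟩
    have hfib : ∀ b ∈ F, (Finset.univ.filter fun x : L => S.conjH x a = b).card = Nat.card A := by
      intro b hb
      simp only [hF, hA', Finset.mem_filter, Finset.mem_univ, true_and,
        ConjClasses.mk_eq_mk_iff_isConj] at hb
      obtain ⟨c, hc⟩ := isConj_iff.1 hb.2.symm
      have hcL : c⁻¹ ∈ L := by
        refine S.ti c⁻¹ a a.2 (hne a ha) ?_
        rw [inv_inv, hc]; exact b.2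
      rw [Nat.card_eq_fintype_card, ← Finset.card_univ (α := A)]
      symm
      refine Finset.card_bij (fun z _ => (⟨(z : G), S.lt.le z.2⟩ : L) * ⟨c⁻¹, hcL⟩)
        (fun z _ => ?_) (fun z _ z' _ hz => ?_) fun x hx => ?_
      · simp only [Finset.mem_filter, Finset.mem_univ, true_and]
        refine Subtype.ext ?_
        rw [Setting.conjH_apply, ← hc]
        show ((z : G) * c⁻¹)⁻¹ * a * ((z : G) * c⁻¹) = c * a * c⁻¹
        rw [mul_inv_rev, inv_inv, show c * (z : G)⁻¹ * a * ((z : G) * c⁻¹) =
          c * ((z : G)⁻¹ * (a * z)) * c⁻¹ by group, h.comm a a.2 z z.2, inv_mul_cancel_left]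
      · exact Subtype.ext (mul_right_cancel (congrArg Subtype.val hz : (z : G) * c⁻¹ = z' * c⁻¹))
      · simp only [Finset.mem_filter, Finset.mem_univ, true_and] at hx
        have hx' : (x : G)⁻¹ * a * x = c * a * c⁻¹ := by
          rw [hc, ← hx, Setting.conjH_apply]
        have hz : (x : G) * c ∈ A := by
          refine h.mem_of_commute a.2 (hne a ha) ?_
          calc (x : G) * c * a = x * (c * a * c⁻¹) * c := by group
            _ = x * ((x : G)⁻¹ * a * x) * c := by rw [hx']
            _ = (a : G) * ((x : G) * c) := by group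
        refine ⟨⟨_, hz⟩, Finset.mem_univ _, Subtype.ext ?_⟩
        show (x : G) * c * c⁻¹ = x
        group
    have hc := Finset.card_eq_sum_card_fiberwise hmaps
    rw [Finset.sum_congr rfl hfib, Finset.sum_const, smul_eq_mul, Finset.card_univ,
      ← Nat.card_eq_fintype_card, hcardL] at hc
    exact (Nat.eq_of_mul_eq_mul_right Nat.card_pos hc).symm
  · have hn : Nat.card A ∣ Nat.card G := Subgroup.card_subgroup_dvd_card A
    rw [card_eq_mul_card_image (Finset.univ.filter (InD A)) ConjClasses.mk
      (Nat.card G / Nat.card A), mul_assoc, Nat.div_mul_cancel hn]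
    intro c hc
    obtain ⟨y, hy, rfl⟩ := Finset.mem_image.1 hc
    simp only [Finset.mem_filter, Finset.mem_univ, true_and] at hy
    obtain ⟨hy1, x, hx⟩ := hy
    have hconj : IsConj (x⁻¹ * y * x) y := isConj_iff.2 ⟨x, by group⟩
    have hxy1 : x⁻¹ * y * x ≠ 1 := fun e => hy1 (by
      calc y = x * (x⁻¹ * y * x) * x⁻¹ := by group
        _ = 1 := by rw [e]; group)
    have hcl : ((Finset.univ.filter (InD A)).filter fun z =>
        ConjClasses.mk z = ConjClasses.mk y) =
        Finset.univ.filter fun z => IsConj z (x⁻¹ * y * x) := by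
      ext z
      simp only [Finset.mem_filter, Finset.mem_univ, true_and, ConjClasses.mk_eq_mk_iff_isConj]
      constructor
      · exact fun hz => hz.2.trans hconj.symm
      · intro hz
        obtain ⟨c, hc⟩ := isConj_iff.1 (hz.trans hconj).symm
        exact ⟨hc ▸ InD.conj ⟨hy1, x, hx⟩ c, hz.trans hconj⟩
    rw [hcl, ← Fintype.card_subtype, ← Nat.card_eq_fintype_card]
    have := card_conjugates_mul (x⁻¹ * y * x)
    rw [h.cent _ hx hxy1] at this
    rw [← this, Nat.mul_div_cancel _ Nat.card_pos]

/-- Every element conjugate into `A` is a product of `|A|` pairs of involutions. -/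
theorem SSC.pairs_le (h : SSC A e) (he : 2 ∣ e) {y : G} (hy : InD A y) :
    Nat.card A ≤ ((invols G).filter fun i => i * y ∈ invols G).card := by
  classical
  obtain ⟨f, hfo, -, hfA, hinv⟩ := h.exists_inverting he
  obtain ⟨-, x, hx⟩ := hy
  haveI : Fintype A := Fintype.ofFinite _
  have hff : f * f = 1 := by rw [← pow_two, ← hfo, pow_orderOf_eq_one]
  have hfi : f⁻¹ = f := inv_eq_of_mul_eq_one_right hff
  have hbf : ∀ b ∈ A, orderOf (b * f) = 2 := by
    intro b hb
    refine orderOf_eq_prime ?_ fun e => hfA ?_
    · have := hinv b hb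
      rw [hfi] at this
      rw [pow_two, show b * f * (b * f) = b * (f * b * f) by group, this, mul_inv_cancel]
    · rw [← inv_eq_of_mul_eq_one_right e]; exact inv_mem hb
  have hconj : ∀ z, orderOf (x * z * x⁻¹) = orderOf z := fun z => by
    simpa using orderOf_injective (MulAut.conj x).toMonoidHom (MulAut.conj x).injective z
  rw [Nat.card_eq_fintype_card, ← Finset.card_univ (α := A)]
  refine Finset.card_le_card_of_injOn (fun b : A => x * (b * f) * x⁻¹) (fun b _ => ?_)
    fun b _ b' _ hbb => ?_
  · simp only [Finset.coe_filter, invols, Finset.mem_filter, Finset.mem_univ, true_and,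
      Set.mem_ofPred_eq]
    refine ⟨(hconj _).trans (hbf b b.2), ?_⟩
    have e1 : x * (b * f) * x⁻¹ * y = x * ((b * f) * (x⁻¹ * y * x)) * x⁻¹ := by group
    rw [e1, hconj]
    have e2 : (b : G) * f * (x⁻¹ * y * x) = (b * (x⁻¹ * y * x)⁻¹) * f := by
      rw [← hinv _ hx]; group
    rw [e2]
    exact hbf _ (mul_mem b.2 (inv_mem hx))
  · exact Subtype.ext (mul_right_cancel (mul_left_cancel (mul_right_cancel hbb)))

/-- Frobenius-Schur: the involutions are at most the sum of the non-principal degrees. -/
theorem card_invols_le (d : Cfsg.IrrCharacter G → ℕ)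
    (hd : ∀ χ : Cfsg.IrrCharacter G, (χ : G → ℂ) 1 = (d χ : ℂ))
    (o : Cfsg.IrrCharacter G) (ho : (o : G → ℂ) = fun _ => 1) :
    (invols G).card ≤ ∑ χ ∈ Finset.univ.erase o, d χ := by
  classical
  set ν : Cfsg.IrrCharacter G → ℂ :=
    fun χ => (Nat.card G : ℂ)⁻¹ * ∑ s : G, (χ : G → ℂ) (s * s) with hν
  have hν' : ∀ χ, ν χ = 0 ∨ ν χ = 1 ∨ ν χ = -1 := by
    intro χ
    obtain ⟨n, ρ, hρ, hχ⟩ := χ.2
    haveI := hρ
    simp only [hν, ← hχ]
    exact (frobeniusSchur ρ).1
  have hG : (Nat.card G : ℂ) ≠ 0 := Nat.cast_ne_zero.2 Nat.card_pos.ne'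
  have hsum : ((Finset.univ.filter fun s : G => s * s = 1).card : ℂ) =
      ∑ χ : Cfsg.IrrCharacter G, (d χ : ℂ) * ν χ := by
    have h1 : (Nat.card G : ℂ) * ((Finset.univ.filter fun s : G => s * s = 1).card : ℂ) =
        ∑ s : G, ∑ χ : Cfsg.IrrCharacter G, (χ : G → ℂ) 1 * (χ : G → ℂ) (s * s) := by
      simp only [regular_eq_sum_irr]
      rw [← Finset.sum_filter, Finset.sum_const, nsmul_eq_mul, mul_comm]
    apply mul_left_cancel₀ hG
    rw [h1, Finset.sum_comm, Finset.mul_sum]
    refine Finset.sum_congr rfl fun χ _ => ?_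
    rw [← Finset.mul_sum, hd, hν]
    field_simp
  have hsplit : (Finset.univ.filter fun s : G => s * s = 1).card = (invols G).card + 1 := by
    have : (Finset.univ.filter fun s : G => s * s = 1) = insert 1 (invols G) := by
      ext s
      simp only [invols, Finset.mem_filter, Finset.mem_univ, true_and, Finset.mem_insert]
      constructor
      · intro hs
        by_cases h1 : s = 1
        · exact Or.inl h1
        · exact Or.inr (orderOf_eq_prime (by rw [pow_two, hs]) h1)
      · rintro (rfl | hs)
        · exact one_mul 1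
        · rw [← pow_two, ← hs, pow_orderOf_eq_one]
    rw [this, Finset.card_insert_of_notMem (by simp [invols])]
  have hνo : ν o = 1 := by
    simp [hν, ho, Nat.card_eq_fintype_card]
  have hdo : d o = 1 := by
    have := hd o
    rw [ho] at this
    simp only at this
    exact_mod_cast this.symm
  rw [hsplit, ← Finset.add_sum_erase Finset.univ _ (Finset.mem_univ o), hνo, hdo] at hsum
  have hre := congrArg Complex.re hsum
  simp only [Nat.cast_add, Nat.cast_one, Complex.add_re, Complex.natCast_re, Complex.one_re,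
    one_mul, Complex.re_sum] at hre
  have hle : ((invols G).card : ℝ) ≤ ((∑ χ ∈ Finset.univ.erase o, d χ : ℕ) : ℝ) := by
    push_cast
    refine le_trans (le_of_eq (by linarith)) (Finset.sum_le_sum fun χ _ => ?_)
    rcases hν' χ with e | e | e <;> simp [e]
  exact_mod_cast hle

end CfsgLib.Recognition.SelfCentSystem
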