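import Mathlib

/-!
# Three orthogonal families of integer vectors with small Gram matrices
-/

set_option autoImplicit false

namespace CfsgLib.Recognition.SelfCentSystem

/-- A family of `m` integer vectors with Gram matrix `e + δ`, each a common vector minus `ε` at
its own coordinate, and with value `1` at the distinguished coordinate. -/
structure Vec (ι : Type*) [Fintype ι] [DecidableEq ι] (o : ι) where
  m : ℕ
  e : ℕ
  ε : ℤ
  T : ι → ℤ
  μ : Fin m → ι
  z : Fin m → ι → ℤ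
  two_le : 2 ≤ m
  hε : ε = 1 ∨ ε = -1
  μ_inj : Function.Injective μ
  shape : ∀ b χ, z b χ = T χ - ε * (if χ = μ b then 1 else 0)
  z_one : ∀ b, z b o = 1
  gram : ∀ b b', ∑ χ, z b χ * z b' χ = (e : ℤ) + if b = b' then 1 else 0

theorem mul_sub_nonneg {m : ℕ} (hm : 2 ≤ m) (s : ℤ) : 0 ≤ (m : ℤ) * s ^ 2 - 2 * s := by
  have h2 : 2 * s ^ 2 ≤ (m : ℤ) * s ^ 2 :=
    mul_le_mul_of_nonneg_right (by exact_mod_cast hm) (sq_nonneg s)
  rcases eq_or_ne s 0 with rfl | hs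
  · simp
  · have : 1 ≤ s ^ 2 := by nlinarith [mul_self_pos.2 hs]
    rcases le_or_gt s 0 with h | h <;> nlinarith

namespace Vec

variable {ι : Type*} [Fintype ι] [DecidableEq ι] {o : ι} (V : Vec ι o)

theorem exists_other (b : Fin V.m) : ∃ b', b' ≠ b := by
  have : Nontrivial (Fin V.m) := Fin.nontrivial_iff_two_le.mpr V.two_le
  exact exists_ne b

/-- The first coordinate. -/
def b₀ : Fin V.m := ⟨0, by have := V.two_le; omega⟩

/-- The common value at the own coordinates, signed. -/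
def s : ℤ := V.ε * V.T (V.μ V.b₀)

theorem μ_ne (b : Fin V.m) : V.μ b ≠ o := by
  intro h
  obtain ⟨b', hb'⟩ := V.exists_other b
  have h1 := V.z_one b
  have h2 := V.z_one b'
  rw [V.shape, if_pos h.symm] at h1
  rw [V.shape, if_neg fun h' => hb' (V.μ_inj (h'.symm.trans h.symm))] at h2
  rcases V.hε with e | e <;> rw [e] at h1 h2 <;> omega

theorem T_one : V.T o = 1 := by
  have h := V.z_one V.b₀
  rwa [V.shape, if_neg (Ne.symm (V.μ_ne _)), mul_zero, sub_zero] at h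

theorem sum_z_mul (W : Vec ι o) (b : Fin V.m) (c : Fin W.m) :
    ∑ χ, V.z b χ * W.z c χ = ∑ χ, V.T χ * W.T χ - W.ε * V.T (W.μ c) - V.ε * W.T (V.μ b)
      + V.ε * W.ε * (if V.μ b = W.μ c then 1 else 0) := by
  have h : ∀ χ, V.z b χ * W.z c χ = V.T χ * W.T χ - W.ε * (if χ = W.μ c then V.T χ else 0)
      - V.ε * (if χ = V.μ b then W.T χ else 0)
      + V.ε * W.ε * (if χ = V.μ b then (if χ = W.μ c then 1 else 0) else 0) := fun χ => by
    rw [V.shape, W.shape]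
    split_ifs <;> ring
  simp only [h, Finset.sum_add_distrib, Finset.sum_sub_distrib, ← Finset.mul_sum,
    Finset.sum_ite_eq', Finset.mem_univ, if_true]

theorem T_μ (b : Fin V.m) : V.ε * V.T (V.μ b) = V.s := by
  have hd : ∀ c, ∑ χ, V.T χ * V.T χ - 2 * (V.ε * V.T (V.μ c)) = V.e := fun c => by
    have h := (V.sum_z_mul V c c).symm.trans (V.gram c c)
    rw [if_pos rfl, if_pos rfl] at h
    have hεε : V.ε * V.ε = 1 := by rcases V.hε with e | e <;> rw [e] <;> ring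
    rw [hεε] at h
    linarith
  have h1 := hd b
  have h2 := hd V.b₀
  simp only [s]
  linarith

theorem sum_T_sq : ∑ χ, V.T χ * V.T χ = (V.e : ℤ) + 2 * V.s := by
  have h := (V.sum_z_mul V V.b₀ V.b₀).symm.trans (V.gram V.b₀ V.b₀)
  rw [if_pos rfl, if_pos rfl, V.T_μ] at h
  have hεε : V.ε * V.ε = 1 := by rcases V.hε with e | e <;> rw [e] <;> ring
  rw [hεε] at h
  linarith

variable (W : Vec ι o)

/-- The signed value of `V.T` at the own coordinates of `W`. -/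
def d : ℤ := W.ε * V.T (W.μ W.b₀)

theorem disjoint_μ (h : ∀ b c, ∑ χ, V.z b χ * W.z c χ = 0) (b : Fin V.m) (c : Fin W.m) :
    V.μ b ≠ W.μ c := by
  intro he
  obtain ⟨b', hb'⟩ := V.exists_other b
  obtain ⟨c', hc'⟩ := W.exists_other c
  have h0 := (V.sum_z_mul W b c).symm.trans (h b c)
  have h1 := (V.sum_z_mul W b c').symm.trans (h b c')
  have h2 := (V.sum_z_mul W b' c).symm.trans (h b' c)
  have h3 := (V.sum_z_mul W b' c').symm.trans (h b' c')
  rw [if_pos he] at h0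
  rw [if_neg fun h' => hc' (W.μ_inj (h'.symm.trans he))] at h1
  rw [if_neg fun h' => hb' (V.μ_inj (h'.trans he.symm))] at h2
  split_ifs at h3 <;> rcases V.hε with e | e <;> rcases W.hε with e' | e' <;>
    rw [e, e'] at h0 h1 h2 h3 <;> omega

theorem d_const (h : ∀ b c, ∑ χ, V.z b χ * W.z c χ = 0) (c : Fin W.m) :
    W.ε * V.T (W.μ c) = V.d W := by
  have h0 := (V.sum_z_mul W V.b₀ c).symm.trans (h V.b₀ c)
  have h1 := (V.sum_z_mul W V.b₀ W.b₀).symm.trans (h V.b₀ W.b₀)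
  rw [if_neg (V.disjoint_μ W h _ _)] at h0 h1
  simp only [d]
  linarith

theorem sum_T_mul (h : ∀ b c, ∑ χ, V.z b χ * W.z c χ = 0) :
    ∑ χ, V.T χ * W.T χ = V.d W + W.d V := by
  have h0 := (V.sum_z_mul W V.b₀ W.b₀).symm.trans (h V.b₀ W.b₀)
  rw [if_neg (V.disjoint_μ W h _ _)] at h0
  simp only [d]
  linarith

theorem sum_T_sq_own : ∑ b, V.T (V.μ b) * V.T (V.μ b) = (V.m : ℤ) * V.s ^ 2 := by
  have h : ∀ b, V.T (V.μ b) * V.T (V.μ b) = V.s ^ 2 := fun b => by
    have hεε : V.ε * V.ε = 1 := by rcases V.hε with e | e <;> rw [e] <;> ring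
    rw [← V.T_μ b]; linear_combination (-(V.T (V.μ b) ^ 2)) * hεε
  simp [h]

theorem sum_T_mul_at (U : Vec ι o) (a b : ℤ) (ha : ∀ c, W.ε * V.T (W.μ c) = a)
    (hb : ∀ c, W.ε * U.T (W.μ c) = b) :
    ∑ c, V.T (W.μ c) * U.T (W.μ c) = (W.m : ℤ) * (a * b) := by
  have h : ∀ c, V.T (W.μ c) * U.T (W.μ c) = a * b := fun c => by
    have hεε : W.ε * W.ε = 1 := by rcases W.hε with e | e <;> rw [e] <;> ring
    rw [← ha c, ← hb c]; linear_combination (-(V.T (W.μ c) * U.T (W.μ c))) * hεε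
  simp [h]

end Vec

theorem sq_pos_int {x : ℤ} (h : x ≠ 0) : 1 ≤ x ^ 2 := by
  nlinarith [mul_self_pos.2 h]

theorem card_support_le {ι : Type*} (P : Finset ι) (u : ι → ℤ) :
    ((P.filter fun p => u p ≠ 0).card : ℤ) ≤ ∑ p ∈ P, u p ^ 2 := by
  rw [Finset.card_filter, Nat.cast_sum]
  refine Finset.sum_le_sum fun p _ => ?_
  split_ifs with h
  · exact_mod_cast sq_pos_int h
  · exact_mod_cast sq_nonneg (u p)

theorem eq_of_card_le_one {ι : Type*} {P : Finset ι} {u : ι → ℤ} (hle : ∑ p ∈ P, u p ^ 2 ≤ 1)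
    {x y : ι} (hx : x ∈ P) (hy : y ∈ P) (hux : u x ≠ 0) (huy : u y ≠ 0) : x = y := by
  classical
  by_contra hne
  have h := Finset.sum_le_sum_of_subset_of_nonneg (s := ({x, y} : Finset ι)) (t := P)
    (f := fun p => u p ^ 2) (by intro p hp; simp at hp; rcases hp with rfl | rfl <;> assumption)
    (fun p _ _ => sq_nonneg _)
  rw [Finset.sum_pair hne] at h
  linarith [sq_pos_int hux, sq_pos_int huy]

/-- The three common vectors live on at most three coordinates. -/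
theorem card_support_three {ι : Type*} [DecidableEq ι] (P : Finset ι) (a u v : ι → ℤ)
    {m₁ m₂ m₃ : ℕ} (hm₁ : 2 ≤ m₁) (hm₂ : 2 ≤ m₂) (hm₃ : 2 ≤ m₃)
    (s₁ s₂ s₃ d₁₂ d₁₃ d₂₁ d₂₃ d₃₁ d₃₂ : ℤ)
    (n₁ : (∑ p ∈ P, a p ^ 2) + ((m₁ : ℤ) * s₁ ^ 2 - 2 * s₁) + m₂ * d₁₂ ^ 2 + m₃ * d₁₃ ^ 2 = 1)
    (n₂ : (∑ p ∈ P, u p ^ 2) + ((m₂ : ℤ) * s₂ ^ 2 - 2 * s₂) + m₁ * d₂₁ ^ 2 + m₃ * d₂₃ ^ 2 = 3)
    (n₃ : (∑ p ∈ P, v p ^ 2) + ((m₃ : ℤ) * s₃ ^ 2 - 2 * s₃) + m₁ * d₃₁ ^ 2 + m₂ * d₃₂ ^ 2 = 3)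
    (x₁₂ : (∑ p ∈ P, a p * u p) + d₂₁ * (m₁ * s₁ - 1) + d₁₂ * (m₂ * s₂ - 1) +
      m₃ * (d₁₃ * d₂₃) = -1)
    (x₁₃ : (∑ p ∈ P, a p * v p) + d₃₁ * (m₁ * s₁ - 1) + d₁₃ * (m₃ * s₃ - 1) +
      m₂ * (d₁₂ * d₃₂) = -1)
    (x₂₃ : (∑ p ∈ P, u p * v p) + d₃₂ * (m₂ * s₂ - 1) + d₂₃ * (m₃ * s₃ - 1) +
      m₁ * (d₂₁ * d₃₁) = -1) :
    (P.filter fun p => a p ≠ 0 ∨ u p ≠ 0 ∨ v p ≠ 0).card ≤ 3 := by
  have hs₁ := mul_sub_nonneg hm₁ s₁
  have hs₂ := mul_sub_nonneg hm₂ s₂
  have hs₃ := mul_sub_nonneg hm₃ s₃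
  have hm₁' : (2 : ℤ) ≤ m₁ := by exact_mod_cast hm₁
  have hm₂' : (2 : ℤ) ≤ m₂ := by exact_mod_cast hm₂
  have hm₃' : (2 : ℤ) ≤ m₃ := by exact_mod_cast hm₃
  have hA : 0 ≤ ∑ p ∈ P, a p ^ 2 := Finset.sum_nonneg fun p _ => sq_nonneg _
  have hU : 0 ≤ ∑ p ∈ P, u p ^ 2 := Finset.sum_nonneg fun p _ => sq_nonneg _
  have hV : 0 ≤ ∑ p ∈ P, v p ^ 2 := Finset.sum_nonneg fun p _ => sq_nonneg _
  have hbig : ∀ {m : ℤ} {d : ℤ}, 2 ≤ m → d ≠ 0 → 2 ≤ m * d ^ 2 := fun hm hd => by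
    nlinarith [sq_pos_int hd]
  have hnn : ∀ {m : ℤ} {d : ℤ}, 2 ≤ m → 0 ≤ m * d ^ 2 := fun hm =>
    mul_nonneg (by linarith) (sq_nonneg _)
  have z₁₂ : d₁₂ = 0 := by
    by_contra h
    linarith [hbig hm₂' h, hnn (d := d₁₃) hm₃']
  have z₁₃ : d₁₃ = 0 := by
    by_contra h
    linarith [hbig hm₃' h, hnn (d := d₁₂) hm₂']
  subst z₁₂ z₁₃
  simp only [mul_zero, zero_mul, add_zero, ne_eq, OfNat.ofNat_ne_zero, not_false_eq_true,
    zero_pow] at n₁ x₁₂ x₁₃
  -- the first vector has one coordinate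
  obtain ⟨ψ, hψP, hψ⟩ : ∃ ψ ∈ P, a ψ ≠ 0 := by
    by_contra h
    push Not at h
    have h0 : ∑ p ∈ P, a p * u p = 0 := Finset.sum_eq_zero fun p hp => by rw [h p hp, zero_mul]
    have h0' : ∑ p ∈ P, a p ^ 2 = 0 := Finset.sum_eq_zero fun p hp => by rw [h p hp]; norm_num
    rw [h0'] at n₁
    rw [h0] at x₁₂
    have hsd : s₁ ∣ 1 := ⟨(m₁ : ℤ) * s₁ - 2, by linear_combination -n₁⟩
    rcases Int.isUnit_iff.mp (isUnit_of_dvd_one hsd) with rfl | rfl
    · have : (m₁ : ℤ) = 3 := by linarith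
      rw [this] at x₁₂
      omega
    · linarith
  have hA1 : ∑ p ∈ P, a p ^ 2 ≤ 1 := by linarith
  have hAeq : ∑ p ∈ P, a p ^ 2 = 1 := le_antisymm hA1 (by
    have := Finset.single_le_sum (f := fun p => a p ^ 2) (fun p _ => sq_nonneg _) hψP
    linarith [sq_pos_int hψ])
  have haonly : ∀ p ∈ P, p ≠ ψ → a p = 0 := fun p hp hpψ => by
    by_contra h
    exact hpψ (eq_of_card_le_one hA1 hp hψP h hψ)
  have haψ : a ψ ^ 2 = 1 := by
    rw [Finset.sum_eq_single_of_mem ψ hψP fun p hp hpψ => by rw [haonly p hp hpψ]; norm_num]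
      at hAeq
    exact hAeq
  have hau : ∀ w : ι → ℤ, ∑ p ∈ P, a p * w p = a ψ * w ψ := fun w =>
    Finset.sum_eq_single_of_mem ψ hψP fun p hp hpψ => by rw [haonly p hp hpψ, zero_mul]
  rw [hau] at x₁₂ x₁₃
  have hsu : ∀ w : ι → ℤ, ∀ k : ℤ, (∑ p ∈ P, w p ^ 2) ≤ k →
      ((P.filter fun p => w p ≠ 0).card : ℤ) ≤ k :=
    fun w k h => (card_support_le P w).trans h
  -- either a vector has at most one coordinate, or it contains `ψ`
  have hsplit : ∀ (w : ι → ℤ) (d d' e : ℤ) (m m' : ℕ), 2 ≤ (m : ℤ) → 2 ≤ (m' : ℤ) →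
      (∑ p ∈ P, w p ^ 2) + e + m * d ^ 2 + m' * d' ^ 2 = 3 → 0 ≤ e →
      a ψ * w ψ + d * ((m₁ : ℤ) * s₁ - 1) = -1 →
      (∑ p ∈ P, w p ^ 2) ≤ 1 ∨ (d = 0 ∧ d' = 0 ∧ w ψ = -a ψ) := by
    intro w d d' e m m' hm hm' n he x
    by_cases hd : d = 0
    · by_cases hd' : d' = 0
      · refine Or.inr ⟨hd, hd', ?_⟩
        rw [hd, zero_mul, add_zero] at x
        linear_combination (a ψ) * x - (w ψ) * haψ
      · left; linarith [hbig hm' hd', hnn (d := d) hm]
    · left; linarith [hbig hm hd, hnn (d := d') hm']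
  have hsub : ∀ w : ι → ℤ, (∑ p ∈ P, w p ^ 2) ≤ 1 → (P.filter fun p => w p ≠ 0).card ≤ 1 :=
    fun w h => by exact_mod_cast hsu w 1 h
  have hcov : (P.filter fun p => a p ≠ 0 ∨ u p ≠ 0 ∨ v p ≠ 0) ⊆
      {ψ} ∪ (P.filter fun p => u p ≠ 0) ∪ (P.filter fun p => v p ≠ 0) := by
    intro p hp
    rw [Finset.mem_filter] at hp
    simp only [Finset.mem_union, Finset.mem_singleton, Finset.mem_filter]
    rcases hp.2 with h | h | h
    · exact Or.inl (Or.inl (by by_contra hh; exact h (haonly p hp.1 hh)))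
    · exact Or.inl (Or.inr ⟨hp.1, h⟩)
    · exact Or.inr ⟨hp.1, h⟩
  have hcard := Finset.card_le_card hcov
  have hu3 : (P.filter fun p => u p ≠ 0).card ≤ 3 := by
    exact_mod_cast hsu u 3 (by linarith [hnn (d := d₂₁) hm₁', hnn (d := d₂₃) hm₃'])
  have hv3 : (P.filter fun p => v p ≠ 0).card ≤ 3 := by
    exact_mod_cast hsu v 3 (by linarith [hnn (d := d₃₁) hm₁', hnn (d := d₃₂) hm₂'])
  have hmemψ : ∀ w : ι → ℤ, w ψ = -a ψ → ψ ∈ P.filter fun p => w p ≠ 0 := fun w h =>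
    Finset.mem_filter.2 ⟨hψP, by rw [h]; exact neg_ne_zero.2 hψ⟩
  rcases hsplit u d₂₁ d₂₃ _ m₁ m₃ hm₁' hm₃' n₂ hs₂ x₁₂ with hu | ⟨hd21, hd23, huψ⟩ <;>
    rcases hsplit v d₃₁ d₃₂ _ m₁ m₂ hm₁' hm₂' n₃ hs₃ x₁₃ with hv | ⟨hd31, hd32, hvψ⟩
  · have := hsub u hu; have := hsub v hv
    have := Finset.card_union_le ({ψ} ∪ P.filter fun p => u p ≠ 0) (P.filter fun p => v p ≠ 0)
    have := Finset.card_union_le ({ψ} : Finset ι) (P.filter fun p => u p ≠ 0)
    rw [Finset.card_singleton] at this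
    omega
  · -- `u` small, `v` contains `ψ`
    subst hd31 hd32
    by_cases h23 : d₂₃ = 0
    · subst h23
      simp only [mul_zero, zero_mul, add_zero] at x₂₃
      obtain ⟨p₀, hp₀, hp₀'⟩ := Finset.exists_ne_zero_of_sum_ne_zero
        (s := P) (f := fun p => u p * v p) (by rw [x₂₃]; norm_num)
      rw [mul_ne_zero_iff] at hp₀'
      have hsub' : (P.filter fun p => u p ≠ 0) ⊆ P.filter fun p => v p ≠ 0 := by
        intro p hp
        rw [Finset.mem_filter] at hp ⊢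
        refine ⟨hp.1, ?_⟩
        rw [eq_of_card_le_one hu hp.1 hp₀ hp.2 hp₀'.1]
        exact hp₀'.2
      rw [Finset.union_assoc, Finset.union_eq_right.2 hsub',
        Finset.singleton_union, Finset.insert_eq_of_mem (hmemψ v hvψ)] at hcard
      exact hcard.trans hv3
    · have hu' : (∑ p ∈ P, u p ^ 2) ≤ 1 := hu
      by_cases hd21 : d₂₁ = 0
      · subst hd21
        rw [zero_mul, add_zero] at x₁₂
        have huψ : u ψ ≠ 0 := fun h => by rw [h] at x₁₂; simp at x₁₂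
        have hsub' : (P.filter fun p => u p ≠ 0) ⊆ {ψ} := by
          intro p hp
          rw [Finset.mem_filter] at hp
          exact Finset.mem_singleton.2 (eq_of_card_le_one hu' hp.1 hψP hp.2 huψ)
        rw [Finset.union_eq_left.2 hsub', Finset.singleton_union,
          Finset.insert_eq_of_mem (hmemψ v hvψ)] at hcard
        exact hcard.trans hv3
      · linarith [hbig hm₁' hd21, hbig hm₃' h23]
  · subst hd21 hd23
    by_cases h32 : d₃₂ = 0
    · subst h32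
      simp only [mul_zero, zero_mul, add_zero] at x₂₃
      obtain ⟨p₀, hp₀, hp₀'⟩ := Finset.exists_ne_zero_of_sum_ne_zero
        (s := P) (f := fun p => u p * v p) (by rw [x₂₃]; norm_num)
      rw [mul_ne_zero_iff] at hp₀'
      have hsub' : (P.filter fun p => v p ≠ 0) ⊆ P.filter fun p => u p ≠ 0 := by
        intro p hp
        rw [Finset.mem_filter] at hp ⊢
        refine ⟨hp.1, ?_⟩
        rw [eq_of_card_le_one hv hp.1 hp₀ hp.2 hp₀'.2]
        exact hp₀'.1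
      rw [Finset.union_assoc, Finset.union_eq_left.2 hsub',
        Finset.singleton_union, Finset.insert_eq_of_mem (hmemψ u huψ)] at hcard
      exact hcard.trans hu3
    · by_cases hd31 : d₃₁ = 0
      · subst hd31
        rw [zero_mul, add_zero] at x₁₃
        have hvψ : v ψ ≠ 0 := fun h => by rw [h] at x₁₃; simp at x₁₃
        have hsub' : (P.filter fun p => v p ≠ 0) ⊆
            {ψ} ∪ (P.filter fun p => u p ≠ 0) := by
          intro p hp
          rw [Finset.mem_filter] at hp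
          exact Finset.mem_union_left _
            (Finset.mem_singleton.2 (eq_of_card_le_one hv hp.1 hψP hp.2 hvψ))
        rw [Finset.union_eq_left.2 hsub', Finset.singleton_union,
          Finset.insert_eq_of_mem (hmemψ u huψ)] at hcard
        exact hcard.trans hu3
      · linarith [hbig hm₁' hd31, hbig hm₂' h32]
  · subst hd21 hd23 hd31 hd32
    simp only [mul_zero, zero_mul, add_zero] at x₂₃
    simp only [mul_zero, add_zero, ne_eq, OfNat.ofNat_ne_zero, not_false_eq_true, zero_pow]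
      at n₂ n₃
    -- off `ψ` the two vectors are opposite
    have hr : ∀ w : ι → ℤ, ∑ p ∈ P.erase ψ, w p + w ψ = ∑ p ∈ P, w p := fun w =>
      Finset.sum_erase_add P w hψP
    have huu : ∑ p ∈ P.erase ψ, u p ^ 2 ≤ 2 := by
      have := hr fun p => u p ^ 2
      simp only [huψ, neg_sq, haψ] at this
      linarith
    have hvv : ∑ p ∈ P.erase ψ, v p ^ 2 ≤ 2 := by
      have := hr fun p => v p ^ 2
      simp only [hvψ, neg_sq, haψ] at this
      linarith
    have huv : ∑ p ∈ P.erase ψ, u p * v p = -2 := by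
      have := hr fun p => u p * v p
      simp only [huψ, hvψ, neg_mul_neg] at this
      rw [← pow_two, haψ] at this
      linarith
    have hsum : ∑ p ∈ P.erase ψ, (u p + v p) ^ 2 = 0 := by
      refine le_antisymm ?_ (Finset.sum_nonneg fun p _ => sq_nonneg _)
      have : ∀ p, (u p + v p) ^ 2 = u p ^ 2 + 2 * (u p * v p) + v p ^ 2 := fun p => by ring
      simp only [this, Finset.sum_add_distrib, ← Finset.mul_sum, huv]
      linarith
    have hsub' : (P.filter fun p => v p ≠ 0) ⊆ P.filter fun p => u p ≠ 0 := by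
      intro p hp
      by_cases hpψ : p = ψ
      · exact hpψ ▸ hmemψ u huψ
      rw [Finset.mem_filter] at hp ⊢
      refine ⟨hp.1, fun h => hp.2 ?_⟩
      have := (Finset.sum_eq_zero_iff_of_nonneg fun q _ => sq_nonneg _).1 hsum p
        (Finset.mem_erase.2 ⟨hpψ, hp.1⟩)
      rw [pow_eq_zero_iff two_ne_zero, h, zero_add] at this
      exact this
    rw [Finset.union_assoc, Finset.union_eq_left.2 hsub',
      Finset.singleton_union, Finset.insert_eq_of_mem (hmemψ u huψ)] at hcard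
    exact hcard.trans hu3

/-- All but `m + 4` coordinates are orthogonal to three mutually orthogonal families. -/
theorem exists_small_support {ι : Type*} [Fintype ι] [DecidableEq ι] {o : ι} (A B C : Vec ι o)
    (hA : A.e = 2) (hB : B.e = 4) (hC : C.e = 4)
    (hAB : ∀ b c, ∑ χ, A.z b χ * B.z c χ = 0) (hAC : ∀ b c, ∑ χ, A.z b χ * C.z c χ = 0)
    (hBC : ∀ b c, ∑ χ, B.z b χ * C.z c χ = 0) :
    ∃ S : Finset ι, o ∈ S ∧ S.card ≤ A.m + B.m + C.m + 4 ∧
      ∀ χ ∉ S, (∀ b, A.z b χ = 0) ∧ (∀ b, B.z b χ = 0) ∧ ∀ b, C.z b χ = 0 := by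
  classical
  have hsymm : ∀ {V W : Vec ι o}, (∀ b c, ∑ χ, V.z b χ * W.z c χ = 0) →
      ∀ c b, ∑ χ, W.z c χ * V.z b χ = 0 := fun h c b => by
    rw [← h b c]; exact Finset.sum_congr rfl fun χ _ => mul_comm _ _
  set EA := Finset.univ.image A.μ with hEA
  set EB := Finset.univ.image B.μ with hEB
  set EC := Finset.univ.image C.μ with hEC
  set E := ({o} : Finset ι) ∪ EA ∪ EB ∪ EC with hE
  have d1 : Disjoint ({o} : Finset ι) EA := by
    simp only [hEA, Finset.disjoint_singleton_left, Finset.mem_image, not_exists]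
    exact fun b h => A.μ_ne b h.2
  have d2 : Disjoint (({o} : Finset ι) ∪ EA) EB := by
    rw [Finset.disjoint_left]
    intro p hp hq
    simp only [hEB, Finset.mem_image, Finset.mem_univ, true_and] at hq
    obtain ⟨c, rfl⟩ := hq
    simp only [hEA, Finset.mem_union, Finset.mem_singleton, Finset.mem_image, Finset.mem_univ,
      true_and] at hp
    rcases hp with h | ⟨b, h⟩
    · exact B.μ_ne c h
    · exact A.disjoint_μ B hAB b c h
  have d3 : Disjoint (({o} : Finset ι) ∪ EA ∪ EB) EC := by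
    rw [Finset.disjoint_left]
    intro p hp hq
    simp only [hEC, Finset.mem_image, Finset.mem_univ, true_and] at hq
    obtain ⟨c, rfl⟩ := hq
    simp only [hEA, hEB, Finset.mem_union, Finset.mem_singleton, Finset.mem_image,
      Finset.mem_univ, true_and] at hp
    rcases hp with (h | ⟨b, h⟩) | ⟨b, h⟩
    · exact C.μ_ne c h
    · exact A.disjoint_μ C hAC b c h
    · exact B.disjoint_μ C hBC b c h
  have dec : ∀ f : ι → ℤ, ∑ χ, f χ = f o + ∑ b, f (A.μ b) + ∑ b, f (B.μ b) + ∑ b, f (C.μ b) +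
      ∑ p ∈ Eᶜ, f p := by
    intro f
    rw [← Finset.sum_add_sum_compl E f, hE, Finset.sum_union d3, Finset.sum_union d2,
      Finset.sum_union d1, Finset.sum_singleton, hEA, hEB, hEC,
      Finset.sum_image fun x _ y _ h => A.μ_inj h, Finset.sum_image fun x _ y _ h => B.μ_inj h,
      Finset.sum_image fun x _ y _ h => C.μ_inj h]
  have sA : ∀ c, A.ε * A.T (A.μ c) = A.s := A.T_μ
  have sB : ∀ c, B.ε * B.T (B.μ c) = B.s := B.T_μ
  have sC : ∀ c, C.ε * C.T (C.μ c) = C.s := C.T_μ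
  have aB := A.d_const B hAB
  have aC := A.d_const C hAC
  have bA := B.d_const A (hsymm hAB)
  have bC := B.d_const C hBC
  have cA := C.d_const A (hsymm hAC)
  have cB := C.d_const B (hsymm hBC)
  have n1 := A.sum_T_sq
  rw [dec, A.T_one, A.sum_T_sq_own, A.sum_T_mul_at B A _ _ aB aB,
    A.sum_T_mul_at C A _ _ aC aC, hA] at n1
  have n2 := B.sum_T_sq
  rw [dec, B.T_one, B.sum_T_sq_own, B.sum_T_mul_at A B _ _ bA bA,
    B.sum_T_mul_at C B _ _ bC bC, hB] at n2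
  have n3 := C.sum_T_sq
  rw [dec, C.T_one, C.sum_T_sq_own, C.sum_T_mul_at A C _ _ cA cA,
    C.sum_T_mul_at B C _ _ cB cB, hC] at n3
  have x12 := A.sum_T_mul B hAB
  rw [dec, A.T_one, B.T_one, A.sum_T_mul_at A B _ _ sA bA, A.sum_T_mul_at B B _ _ aB sB,
    A.sum_T_mul_at C B _ _ aC bC] at x12
  have x13 := A.sum_T_mul C hAC
  rw [dec, A.T_one, C.T_one, A.sum_T_mul_at A C _ _ sA cA, A.sum_T_mul_at B C _ _ aB cB,
    A.sum_T_mul_at C C _ _ aC sC] at x13
  have x23 := B.sum_T_mul C hBC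
  rw [dec, B.T_one, C.T_one, B.sum_T_mul_at A C _ _ bA cA, B.sum_T_mul_at B C _ _ sB cB,
    B.sum_T_mul_at C C _ _ bC sC] at x23
  simp only [← pow_two, Nat.cast_ofNat] at n1 n2 n3 x12 x13 x23
  have hle := card_support_three Eᶜ A.T B.T C.T A.two_le B.two_le C.two_le A.s B.s C.s
    (A.d B) (A.d C) (B.d A) (B.d C) (C.d A) (C.d B) (by linarith) (by linarith) (by linarith)
    (by linarith) (by linarith) (by linarith)
  refine ⟨E ∪ Eᶜ.filter fun p => A.T p ≠ 0 ∨ B.T p ≠ 0 ∨ C.T p ≠ 0, ?_, ?_, fun χ hχ => ?_⟩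
  · simp [hE]
  · refine (Finset.card_union_le _ _).trans ?_
    have hEle : E.card ≤ 1 + A.m + B.m + C.m := by
      rw [hE, Finset.card_union_of_disjoint d3, Finset.card_union_of_disjoint d2,
        Finset.card_union_of_disjoint d1, Finset.card_singleton, hEA, hEB, hEC,
        Finset.card_image_of_injective _ A.μ_inj, Finset.card_image_of_injective _ B.μ_inj,
        Finset.card_image_of_injective _ C.μ_inj, Finset.card_fin, Finset.card_fin,
        Finset.card_fin]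
    omega
  · simp only [Finset.mem_union, Finset.mem_filter, Finset.mem_compl, not_or, not_and,
      not_not] at hχ
    obtain ⟨hχE, hT⟩ := hχ
    obtain ⟨h1, h2, h3⟩ := hT hχE
    refine ⟨fun b => ?_, fun b => ?_, fun b => ?_⟩
    · rw [A.shape, h1, if_neg fun h => hχE (by simp [hE, hEA, h]), mul_zero, sub_zero]
    · rw [B.shape, h2, if_neg fun h => hχE (by simp [hE, hEB, h]), mul_zero, sub_zero]
    · rw [C.shape, h3, if_neg fun h => hχE (by simp [hE, hEC, h]), mul_zero, sub_zero]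

end CfsgLib.Recognition.SelfCentSystem
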