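import Cfsg.Agent.Lib.Recognition.SelfCentSystem.Family
import Cfsg.Agent.Lib.Recognition.SelfCentSystem.Combin
import Cfsg.Agent.Lib.Recognition.SelfCentSystem.Arith
import Cfsg.Agent.Lib.Recognition.SelfCentSystem.Classes
import Cfsg.Agent.Lib.Recognition.CIT.Basic

/-!
# Three strongly self-centralising subgroups force 2-groups as involution centralisers
-/

set_option autoImplicit false
set_option linter.style.haveILetI false

open scoped ComplexConjugate

namespace CfsgLib.Recognition.SelfCentSystem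

open CfsgLib.Char
open CfsgLib.Char.TICover (InD Setting)

variable {G : Type*} [Group G]

/-- The family of a kernel, as integer vectors. -/
def Fam.vec [Fintype G] [DecidableEq (Cfsg.IrrCharacter G)] {H : Subgroup G} (F : Fam H)
    (h : 2 ≤ F.m) : Vec (Cfsg.IrrCharacter G) chiOne where
  m := F.m
  e := F.e
  ε := F.ε
  T := F.T
  μ := F.μ
  z := F.z
  two_le := h
  hε := F.hε
  μ_inj := F.μ_inj
  shape b χ := by rw [F.shape]; congr!
  z_one := F.z_one
  gram := F.gram

theorem Fam.cross [Fintype G] {A B : Subgroup G} (F : Fam A) (F' : Fam B)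
    (hd : ∀ y, InD A y → InD B y → False) (b : Fin F.m) (c : Fin F'.m) :
    ∑ χ, F.z b χ * F'.z c χ = 0 := by
  have h := classInner_eq_sum_mul (F.isClass b) (F.coef b) (F'.coef c)
  have h0 : Cfsg.classInner (F.f b) (F'.f c) = 0 := by
    simp only [Cfsg.classInner]
    rw [Finset.sum_eq_zero fun y _ => ?_, mul_zero]
    by_contra hc
    rw [mul_eq_zero, not_or] at hc
    exact hd y (F.supp b y hc.1) (F'.supp c y fun e => hc.2 (by rw [e, map_zero]))
  rw [h0] at h
  exact_mod_cast h.symm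

set_option maxHeartbeats 1600000 in
theorem isCIT [Finite G] (A₁ A₂ A₃ : Subgroup G) (h₁ : SSC A₁ 2) (h₂ : SSC A₂ 4) (h₃ : SSC A₃ 4)
    (hn₁ : 5 ≤ Nat.card A₁) (hn₂ : 5 < Nat.card A₂) (hn₃ : 5 < Nat.card A₃)
    (hnc₁₂ : ∀ g : G, A₁.map (MulAut.conj g).toMonoidHom ≠ A₂)
    (hnc₁₃ : ∀ g : G, A₁.map (MulAut.conj g).toMonoidHom ≠ A₃)
    (hnc₂₃ : ∀ g : G, A₂.map (MulAut.conj g).toMonoidHom ≠ A₃)
    (hord : Nat.card G ≤ 3 * Nat.card A₁ ^ 2 * Nat.card A₂ ^ 2 * Nat.card A₃ ^ 2) :
    CIT.IsCIT G := by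
  classical
  letI := Fintype.ofFinite G
  intro t ht
  by_contra hnot
  -- an element `y` of odd prime order centralising `t`
  obtain ⟨r, hr, hr2, y, hyo, hyt⟩ : ∃ r : ℕ, r.Prime ∧ r ≠ 2 ∧ ∃ y : G, orderOf y = r ∧
      y * t = t * y := by
    by_contra hno
    push Not at hno
    refine hnot (IsPGroup.of_card (n := (Nat.card (Subgroup.centralizer ({t} : Set G))).factorization 2)
      (Nat.eq_of_factorization_eq Nat.card_pos.ne' (by positivity) fun p => ?_))
    rw [Nat.Prime.factorization_pow Nat.prime_two]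
    by_cases hp2 : p = 2
    · rw [hp2, Finsupp.single_eq_same]
    rw [Finsupp.single_eq_of_ne hp2, Nat.factorization_eq_zero_iff]
    by_cases hp : p.Prime
    · refine Or.inr (Or.inl fun hd => ?_)
      haveI : Fact p.Prime := ⟨hp⟩
      obtain ⟨z, hz⟩ := exists_prime_orderOf_dvd_card' p hd
      exact hno p hp hp2 z (by rw [Subgroup.orderOf_coe, hz])
        (Subgroup.mem_centralizer_singleton_iff.1 z.2)
    · exact Or.inl hp
  set n₁ := Nat.card A₁ with hn₁def
  set n₂ := Nat.card A₂ with hn₂def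
  set n₃ := Nat.card A₃ with hn₃def
  set N := n₁ * n₂ * n₃ with hNdef
  have ho₁ := h₁.odd (dvd_refl 2)
  have ho₂ := h₂.odd (by norm_num)
  have ho₃ := h₃.odd (by norm_num)
  have c₁₂ := h₁.coprime_card h₂ hnc₁₂
  have c₁₃ := h₁.coprime_card h₃ hnc₁₃
  have c₂₃ := h₂.coprime_card h₃ hnc₂₃
  have hdvd : ∀ k : ℕ, n₁ ∣ k → n₂ ∣ k → n₃ ∣ k → N ∣ k := fun k a b c =>
    (Nat.Coprime.mul_left c₁₃ c₂₃).mul_dvd_of_dvd_of_dvd (c₁₂.mul_dvd_of_dvd_of_dvd a b) c
  -- the families
  obtain ⟨F₁, hF₁e, hF₁m⟩ := exists_fam (h₁.setting (by norm_num)) h₁.comm h₁.idx (by omega)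
  obtain ⟨F₂, hF₂e, hF₂m⟩ := exists_fam (h₂.setting (by norm_num)) h₂.comm h₂.idx (by omega)
  obtain ⟨F₃, hF₃e, hF₃m⟩ := exists_fam (h₃.setting (by norm_num)) h₃.comm h₃.idx (by omega)
  have hq₁ := F₁.hq
  have hq₂ := F₂.hq
  have hq₃ := F₃.hq
  rw [hF₁e] at hq₁
  rw [hF₂e] at hq₂
  rw [hF₃e] at hq₃
  set m₁ := F₁.m with hm₁
  set m₂ := F₂.m with hm₂
  set m₃ := F₃.m with hm₃
  set m := m₁ + m₂ + m₃ with hm
  obtain ⟨S, hoS, hScard, hSv⟩ := exists_small_support (F₁.vec hF₁m) (F₂.vec hF₂m) (F₃.vec hF₃m)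
    hF₁e hF₂e hF₃e
    (F₁.cross F₂ fun y => h₁.inD_disjoint h₂ hnc₁₂)
    (F₁.cross F₃ fun y => h₁.inD_disjoint h₃ hnc₁₃)
    (F₂.cross F₃ fun y => h₂.inD_disjoint h₃ hnc₂₃)
  replace hScard : S.card ≤ m + 4 := hScard
  -- degrees
  have hdeg : ∀ χ : Cfsg.IrrCharacter G, ∃ k : ℕ, (χ : G → ℂ) 1 = (k : ℂ) := fun χ => by
    obtain ⟨n, ρ, -, hχ⟩ := χ.2
    exact ⟨_, by rw [← hχ, Representation.char_one]⟩
  choose d hd using hdeg
  have hd0 : ∀ χ : Cfsg.IrrCharacter G, d χ ≠ 0 := fun χ e => by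
    have := IsIrrCharacter.apply_one_ne_zero χ.2
    rw [hd, e] at this
    exact this (by norm_num)
  have hdsq : ∑ χ : Cfsg.IrrCharacter G, d χ ^ 2 = Nat.card G := by
    have h := sum_sq_apply_one (G := G)
    simp only [hd] at h
    exact_mod_cast h
  have hdV : ∀ χ ∉ S, N ∣ d χ := by
    intro χ hχ
    obtain ⟨z₁, z₂, z₃⟩ := hSv χ hχ
    obtain ⟨-, a, ha⟩ := F₁.vanish χ z₁
    obtain ⟨-, b, hb⟩ := F₂.vanish χ z₂
    obtain ⟨-, c, hc⟩ := F₃.vanish χ z₃
    rw [hd] at ha hb hc
    have ha' : d χ = a * n₁ := by exact_mod_cast ha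
    have hb' : d χ = b * n₂ := by exact_mod_cast hb
    have hc' : d χ = c * n₃ := by exact_mod_cast hc
    exact hdvd _ (Dvd.intro_left a ha'.symm) (Dvd.intro_left b hb'.symm) (Dvd.intro_left c hc'.symm)
  obtain ⟨M, hM⟩ := hdvd (Nat.card G) (Subgroup.card_subgroup_dvd_card A₁)
    (Subgroup.card_subgroup_dvd_card A₂) (Subgroup.card_subgroup_dvd_card A₃)
  have hNpos : 0 < N := Nat.mul_pos (Nat.mul_pos Nat.card_pos Nat.card_pos) Nat.card_pos
  have hMle : M ≤ 3 * N := by
    refine Nat.le_of_mul_le_mul_left ?_ hNpos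
    rw [← hM]
    exact hord.trans (le_of_eq (by simp only [hNdef]; ring))
  -- the classes meeting the three subgroups
  set D₁ := Finset.univ.filter (InD A₁) with hD₁
  set D₂ := Finset.univ.filter (InD A₂) with hD₂
  set D₃ := Finset.univ.filter (InD A₃) with hD₃
  set C₁ := D₁.image ConjClasses.mk with hC₁
  set C₂ := D₂.image ConjClasses.mk with hC₂
  set C₃ := D₃.image ConjClasses.mk with hC₃
  obtain ⟨k₁, q₁⟩ : C₁.card * 2 = n₁ - 1 ∧ D₁.card * n₁ = C₁.card * Nat.card G := by
    convert h₁.classes_card (by norm_num)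
  obtain ⟨k₂, q₂⟩ : C₂.card * 4 = n₂ - 1 ∧ D₂.card * n₂ = C₂.card * Nat.card G := by
    convert h₂.classes_card (by norm_num)
  obtain ⟨k₃, q₃⟩ : C₃.card * 4 = n₃ - 1 ∧ D₃.card * n₃ = C₃.card * Nat.card G := by
    convert h₃.classes_card (by norm_num)
  have hc₁ : C₁.card = m₁ := by omega
  have hc₂ : C₂.card = m₂ := by omega
  have hc₃ : C₃.card = m₃ := by omega
  rw [hc₁] at q₁
  rw [hc₂] at q₂
  rw [hc₃] at q₃
  have hmk : ∀ {A : Subgroup G} {x : G},
      ConjClasses.mk x ∈ (Finset.univ.filter (InD A)).image ConjClasses.mk → InD A x := by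
    intro A x hx
    obtain ⟨z, hz, hzx⟩ := Finset.mem_image.1 hx
    simp only [Finset.mem_filter, Finset.mem_univ, true_and] at hz
    obtain ⟨c, hc⟩ := isConj_iff.1 (ConjClasses.mk_eq_mk_iff_isConj.1 hzx)
    exact hc ▸ hz.conj c
  have dC₁₂ : Disjoint C₁ C₂ := Finset.disjoint_left.2 fun c hc hc' => by
    obtain ⟨x, rfl⟩ := ConjClasses.mk_surjective c
    exact h₁.inD_disjoint h₂ hnc₁₂ (hmk hc) (hmk hc')
  have dC₁₃ : Disjoint C₁ C₃ := Finset.disjoint_left.2 fun c hc hc' => by
    obtain ⟨x, rfl⟩ := ConjClasses.mk_surjective c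
    exact h₁.inD_disjoint h₃ hnc₁₃ (hmk hc) (hmk hc')
  have dC₂₃ : Disjoint C₂ C₃ := Finset.disjoint_left.2 fun c hc hc' => by
    obtain ⟨x, rfl⟩ := ConjClasses.mk_surjective c
    exact h₂.inD_disjoint h₃ hnc₂₃ (hmk hc) (hmk hc')
  -- five classes outside
  let Out : G → Prop := fun x => ¬ InD A₁ x ∧ ¬ InD A₂ x ∧ ¬ InD A₃ x
  have hout_of_even : ∀ x, 2 ∣ orderOf x → Out x := fun x hx => by
    refine ⟨fun h => ?_, fun h => ?_, fun h => ?_⟩ <;>
      [have := h₁.odd_orderOf (dvd_refl 2) h; have := h₂.odd_orderOf (by norm_num) h;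
        have := h₃.odd_orderOf (by norm_num) h] <;>
      exact Nat.not_even_iff_odd.2 this (even_iff_two_dvd.2 hx)
  have hty : orderOf (t * y) = 2 * r := by
    rw [(show Commute t y from hyt.symm).orderOf_mul_eq_mul_orderOf_of_coprime (by
      rw [ht, hyo]; exact (Nat.coprime_primes Nat.prime_two hr).2 (Ne.symm hr2)), ht, hyo]
  obtain ⟨f, hf⟩ := h₂.exists_order_four rfl
  have ht1 : t ≠ 1 := fun e => by rw [e, orderOf_one] at ht; omega
  have hy1 : y ≠ 1 := fun e => by rw [e, orderOf_one] at hyo; exact hr.one_lt.ne hyo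
  have hyout : Out y := by
    have key : ∀ {A : Subgroup G} {e : ℕ}, SSC A e → 2 ∣ e → ¬ InD A y := fun h he hy => by
      have := h.odd_orderOf he (h.inD_of_commute hy ht1 hyt.symm)
      rw [ht] at this
      exact absurd this (by decide)
    exact ⟨key h₁ (dvd_refl 2), key h₂ (by norm_num), key h₃ (by norm_num)⟩
  let Five : Finset (ConjClasses G) :=
    {ConjClasses.mk 1, ConjClasses.mk t, ConjClasses.mk f, ConjClasses.mk y, ConjClasses.mk (t * y)}
  have hordne : ∀ {a b : G}, orderOf a ≠ orderOf b → ConjClasses.mk a ≠ ConjClasses.mk b :=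
    fun {a b} hne e => by
      obtain ⟨c, hc⟩ := isConj_iff.1 (ConjClasses.mk_eq_mk_iff_isConj.1 e)
      exact hne (by
        rw [← hc]
        simpa using (orderOf_injective (MulAut.conj c).toMonoidHom (MulAut.conj c).injective a).symm)
  have hr3 : 3 ≤ r := by have := hr.two_le; omega
  have hr4 : r ≠ 4 := fun e => by rw [e] at hr; exact absurd hr (by norm_num)
  have hFive : Five.card = 5 := by
    have o1 : orderOf (1 : G) = 1 := orderOf_one
    rw [Finset.card_insert_of_notMem, Finset.card_insert_of_notMem, Finset.card_insert_of_notMem,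
      Finset.card_insert_of_notMem, Finset.card_singleton] <;>
      simp only [Finset.mem_insert, Finset.mem_singleton, not_or] <;>
      (try refine ⟨?_, ?_, ?_, ?_⟩) <;> (try refine ⟨?_, ?_, ?_⟩) <;> (try refine ⟨?_, ?_⟩) <;>
      refine hordne ?_ <;> omega
  have hFiveOut : ∀ x, ConjClasses.mk x ∈ Five → Out x := by
    have hcl : ∀ {a x : G}, Out a → ConjClasses.mk x = ConjClasses.mk a → Out x := by
      intro a x ha e
      obtain ⟨c, hc⟩ := isConj_iff.1 (ConjClasses.mk_eq_mk_iff_isConj.1 e)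
      exact ⟨fun h => ha.1 (hc ▸ h.conj c), fun h => ha.2.1 (hc ▸ h.conj c),
        fun h => ha.2.2 (hc ▸ h.conj c)⟩
    intro x hx
    simp only [Five, Finset.mem_insert, Finset.mem_singleton] at hx
    rcases hx with e | e | e | e | e
    · exact hcl ⟨fun h => h.1 rfl, fun h => h.1 rfl, fun h => h.1 rfl⟩ e
    · exact hcl (hout_of_even t ⟨1, by omega⟩) e
    · exact hcl (hout_of_even f ⟨2, by omega⟩) e
    · exact hcl hyout e
    · exact hcl (hout_of_even (t * y) ⟨r, hty⟩) e
  set U := C₁ ∪ C₂ ∪ C₃ ∪ Five with hU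
  have dU : Disjoint (C₁ ∪ C₂ ∪ C₃) Five := Finset.disjoint_left.2 fun c hc hc' => by
    obtain ⟨x, rfl⟩ := ConjClasses.mk_surjective c
    obtain ⟨a, b, c⟩ := hFiveOut x hc'
    simp only [Finset.mem_union] at hc
    rcases hc with (h | h) | h
    · exact a (hmk h)
    · exact b (hmk h)
    · exact c (hmk h)
  have hUcard : U.card = m + 5 := by
    rw [hU, Finset.card_union_of_disjoint dU, Finset.card_union_of_disjoint
      (Finset.disjoint_union_left.2 ⟨dC₁₃, dC₂₃⟩), Finset.card_union_of_disjoint dC₁₂, hc₁, hc₂,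
      hc₃, hFive]
  letI : Fintype (ConjClasses G) := Fintype.ofFinite _
  have hK : Fintype.card (Cfsg.IrrCharacter G) = Fintype.card (ConjClasses G) := by
    rw [← Nat.card_eq_fintype_card, ← Nat.card_eq_fintype_card, card_irrCharacter]
  have hK' : m + 5 ≤ Fintype.card (ConjClasses G) := hUcard ▸ Finset.card_le_univ U
  -- the characters vanishing on all three subgroups
  set v := Sᶜ.card with hv
  have hv1 : 1 ≤ v := by rw [hv, Finset.card_compl, hK]; omega
  have hVdeg : ∀ χ ∈ Sᶜ, N * N ≤ d χ ^ 2 := fun χ hχ => by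
    rw [pow_two]
    have := Nat.le_of_dvd (Nat.pos_of_ne_zero (hd0 χ)) (hdV χ (Finset.mem_compl.1 hχ))
    exact Nat.mul_le_mul this this
  have hdo : d chiOne = 1 := by
    have := hd chiOne
    rw [show ((chiOne : Cfsg.IrrCharacter G) : G → ℂ) 1 = 1 from rfl] at this
    exact_mod_cast this.symm
  have hsplit : 1 + ∑ χ ∈ S.erase chiOne, d χ ^ 2 + ∑ χ ∈ Sᶜ, d χ ^ 2 = Nat.card G := by
    rw [← hdsq, ← Finset.sum_add_sum_compl S, ← Finset.add_sum_erase S _ hoS, hdo]
    ring
  have hGM : Nat.card G ≤ 3 * (N * N) := by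
    rw [hM]
    calc N * M ≤ N * (3 * N) := Nat.mul_le_mul_left N hMle
      _ = _ := by ring
  have hdN : ∀ χ ∈ Sᶜ, d χ = N := by
    intro χ hχ
    obtain ⟨j, hj⟩ := hdV χ (Finset.mem_compl.1 hχ)
    have h1 := Finset.single_le_sum (f := fun χ => d χ ^ 2) (fun _ _ => Nat.zero_le _) hχ
    rw [hj] at h1
    have hj0 : j ≠ 0 := fun e => hd0 χ (by rw [hj, e, mul_zero])
    by_contra hne
    have hj2 : 2 ≤ j := by
      by_contra h
      exact hne (by rw [hj, show j = 1 by omega, mul_one])
    have : (N * 2) ^ 2 ≤ (N * j) ^ 2 := Nat.pow_le_pow_left (Nat.mul_le_mul_left N hj2) 2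
    have e : (N * 2) ^ 2 = 4 * (N * N) := by ring
    omega
  have hVsq : ∑ χ ∈ Sᶜ, d χ ^ 2 = v * (N * N) := by
    rw [Finset.sum_congr rfl fun χ hχ => by rw [hdN χ hχ], Finset.sum_const, smul_eq_mul, ← hv,
      pow_two]
  have hv2 : v ≤ 2 := by
    by_contra h
    push Not at h
    have := Nat.mul_le_mul_right (N * N) h
    rw [show Nat.succ 2 = 3 from rfl] at this
    omega
  have hlo : v * N < M := by
    refine lt_of_mul_lt_mul_left ?_ (Nat.zero_le N)
    rw [← hM, show N * (v * N) = v * (N * N) by ring]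
    omega
  -- involutions
  set J := invols G with hJ
  have hJdvd : N ∣ J.card := by
    have key : ∀ {A : Subgroup G} {e : ℕ}, SSC A e → 2 ∣ e → Nat.card A ∣ J.card := by
      intro A e h he
      refine dvd_card_of_invariant J (fun a b ha hab => ?_) fun x hx => ?_
      · simp only [hJ, invols, Finset.mem_filter, Finset.mem_univ, true_and] at ha ⊢
        exact invols_conj ha hab
      · simp only [hJ, invols, Finset.mem_filter, Finset.mem_univ, true_and] at hx
        refine (h.coprime_centralizer (fun e => ?_) fun hD => ?_).dvd_of_dvd_mul_right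
          (card_conjugates_mul x ▸ Subgroup.card_subgroup_dvd_card A)
        · rw [e, orderOf_one] at hx; omega
        · have := h.odd_orderOf he hD
          rw [hx] at this
          exact absurd this (by decide)
    exact hdvd _ (key h₁ (dvd_refl 2)) (key h₂ (by norm_num)) (key h₃ (by norm_num))
  obtain ⟨τ, hτ⟩ := hJdvd
  -- pairs of involutions
  have hpairs : m * M ≤ τ * τ * N := by
    set Y := D₁ ∪ D₂ ∪ D₃ with hY
    have dD : ∀ {A B : Subgroup G}, (∀ y, InD A y → InD B y → False) →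
        Disjoint (Finset.univ.filter (InD A)) (Finset.univ.filter (InD B)) := fun h =>
      Finset.disjoint_left.2 fun y hy hy' =>
        h y (Finset.mem_filter.1 hy).2 (Finset.mem_filter.1 hy').2
    have d12 := dD (A := A₁) (B := A₂) fun y => h₁.inD_disjoint h₂ hnc₁₂
    have d13 := dD (A := A₁) (B := A₃) fun y => h₁.inD_disjoint h₃ hnc₁₃
    have d23 := dD (A := A₂) (B := A₃) fun y => h₂.inD_disjoint h₃ hnc₂₃
    have hle : (Y.sigma fun y => J.filter fun i => i * y ∈ J).card ≤ (J ×ˢ J).card := by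
      refine Finset.card_le_card_of_injOn (fun p => (p.2, p.2 * p.1)) (fun p hp => ?_)
        fun p _ p' _ e => ?_
      · simp only [Finset.coe_sigma, Set.mem_sigma_iff, Finset.mem_coe, Finset.mem_filter] at hp
        simp only [Finset.coe_product, Set.mem_prod, Finset.mem_coe]
        exact hp.2
      · obtain ⟨a, b⟩ := p
        obtain ⟨a', b'⟩ := p'
        simp only [Prod.mk.injEq] at e
        obtain ⟨rfl, e⟩ := e
        obtain rfl := mul_left_cancel e
        rfl
    rw [Finset.card_sigma, Finset.card_product, hY,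
      Finset.sum_union (Finset.disjoint_union_left.2 ⟨d13, d23⟩), Finset.sum_union d12] at hle
    have low : ∀ {A : Subgroup G} {e : ℕ} (s : Finset G), SSC A e → 2 ∣ e →
        (∀ y ∈ s, InD A y) →
        s.card * Nat.card A ≤ ∑ y ∈ s, (J.filter fun i => i * y ∈ J).card := by
      intro A e s h he hs
      rw [← smul_eq_mul]
      exact Finset.card_nsmul_le_sum _ _ _ fun y hy => h.pairs_le he (hs y hy)
    have l₁ := low D₁ h₁ (dvd_refl 2) fun y hy => (Finset.mem_filter.1 hy).2
    have l₂ := low D₂ h₂ (by norm_num) fun y hy => (Finset.mem_filter.1 hy).2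
    have l₃ := low D₃ h₃ (by norm_num) fun y hy => (Finset.mem_filter.1 hy).2
    rw [hτ] at hle
    refine Nat.le_of_mul_le_mul_right ?_ hNpos
    calc m * M * N = m₁ * Nat.card G + m₂ * Nat.card G + m₃ * Nat.card G := by
          rw [hM, hm]; ring
      _ = D₁.card * n₁ + D₂.card * n₂ + D₃.card * n₃ := by rw [q₁, q₂, q₃]
      _ ≤ N * τ * (N * τ) := le_trans (add_le_add (add_le_add l₁ l₂) l₃) hle
      _ = τ * τ * N * N := by ring
  -- Frobenius-Schur
  have hFS : v < τ → (τ - v) * (τ - v) * N ≤ (m + 3) * (M - v * N) := by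
    intro hvτ
    have hT := card_invols_le (G := G) d hd chiOne rfl
    rw [← hJ, hτ] at hT
    have e : Finset.univ.erase (chiOne : Cfsg.IrrCharacter G) = (S.erase chiOne) ∪ Sᶜ := by
      ext χ
      simp only [Finset.mem_erase, Finset.mem_univ, and_true, Finset.mem_union, Finset.mem_compl]
      constructor
      · intro h; by_cases hχ : χ ∈ S
        · exact Or.inl ⟨h, hχ⟩
        · exact Or.inr hχ
      · rintro (h | h)
        · exact h.1
        · exact fun e => h (e ▸ hoS)
    rw [e, Finset.sum_union (Finset.disjoint_left.2 fun χ hχ hχ' =>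
      Finset.mem_compl.1 hχ' (Finset.mem_of_mem_erase hχ)),
      Finset.sum_congr rfl fun χ hχ => hdN χ hχ, Finset.sum_const, smul_eq_mul, ← hv] at hT
    have hcs := sq_sum_le_card_mul_sum_sq (s := S.erase chiOne) (f := d)
    have hcard : (S.erase chiOne).card ≤ m + 3 := by
      rw [Finset.card_erase_of_mem hoS]; omega
    set R := ∑ χ ∈ S.erase chiOne, d χ
    set Q := ∑ χ ∈ S.erase chiOne, d χ ^ 2
    have h1 : (τ - v) * N ≤ R := by
      rw [Nat.sub_mul, mul_comm τ N]; omega
    have h2 : Q ≤ N * (M - v * N) := by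
      rw [Nat.mul_sub, ← hM, show N * (v * N) = v * (N * N) by ring]
      omega
    refine Nat.le_of_mul_le_mul_right ?_ hNpos
    calc (τ - v) * (τ - v) * N * N = ((τ - v) * N) ^ 2 := by ring
      _ ≤ R ^ 2 := Nat.pow_le_pow_left h1 2
      _ ≤ (S.erase chiOne).card * Q := hcs
      _ ≤ (m + 3) * (N * (M - v * N)) := Nat.mul_le_mul hcard h2
      _ = _ := by ring
  -- elements outside
  obtain ⟨s, hs⟩ : ∃ s, (Finset.univ.filter fun x => x ≠ 1 ∧ Out x).card = N * s := by
    have key : ∀ {A : Subgroup G} {e : ℕ}, SSC A e → (∀ x, Out x → ¬ InD A x) →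
        Nat.card A ∣ (Finset.univ.filter fun x => x ≠ 1 ∧ Out x).card := by
      intro A e h hsel
      refine dvd_card_of_invariant _ (fun a b ha hab => ?_) fun x hx => ?_
      · simp only [Finset.mem_filter, Finset.mem_univ, true_and] at ha ⊢
        obtain ⟨c, hc⟩ := isConj_iff.1 hab.symm
        refine ⟨fun e => ha.1 (by rw [← hc, e]; group), fun hb => ha.2.1 (hc ▸ hb.conj c),
          fun hb => ha.2.2.1 (hc ▸ hb.conj c), fun hb => ha.2.2.2 (hc ▸ hb.conj c)⟩
      · simp only [Finset.mem_filter, Finset.mem_univ, true_and] at hx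
        exact (h.coprime_centralizer hx.1 (hsel x hx.2)).dvd_of_dvd_mul_right
          (card_conjugates_mul x ▸ Subgroup.card_subgroup_dvd_card A)
    exact hdvd _ (key h₁ fun x hx => hx.1) (key h₂ fun x hx => hx.2.1)
      (key h₃ fun x hx => hx.2.2)
  have hcong : M * (2 * n₂ * n₃ + n₁ * n₃ + n₁ * n₂) = 4 + 4 * s * N := by
    have hpart : Nat.card G = 1 + N * s + D₁.card + D₂.card + D₃.card := by
      rw [← hs, Nat.card_eq_fintype_card, ← Finset.card_univ]
      have hone : ((Finset.univ.filter fun x : G => x ≠ 1 ∧ Out x) ∪ {1}).card =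
          1 + (Finset.univ.filter fun x : G => x ≠ 1 ∧ Out x).card := by
        rw [Finset.card_union_of_disjoint (by simp), Finset.card_singleton, add_comm]
      rw [← hone]
      have e : (Finset.univ : Finset G) =
          ((Finset.univ.filter fun x : G => x ≠ 1 ∧ Out x) ∪ {1}) ∪ D₁ ∪ D₂ ∪ D₃ := by
        ext x
        simp only [hD₁, hD₂, hD₃, Out, Finset.mem_univ, Finset.mem_union, Finset.mem_filter,
          Finset.mem_singleton, true_and, true_iff]
        by_cases hx : x = 1
        · exact Or.inl (Or.inl (Or.inl (Or.inr hx)))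
        by_cases a : InD A₁ x
        · exact Or.inl (Or.inl (Or.inr a))
        by_cases b : InD A₂ x
        · exact Or.inl (Or.inr b)
        by_cases c : InD A₃ x
        · exact Or.inr c
        exact Or.inl (Or.inl (Or.inl (Or.inl ⟨hx, a, b, c⟩)))
      rw [show (Finset.univ : Finset G).card = _ from congrArg Finset.card e]
      rw [Finset.card_union_of_disjoint, Finset.card_union_of_disjoint,
        Finset.card_union_of_disjoint] <;>
        simp only [Finset.disjoint_left, Finset.mem_union, Finset.mem_filter, Finset.mem_univ,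
          true_and, Finset.mem_singleton, hD₁, hD₂, hD₃] <;> intro x hx
      · rcases hx with hx | hx
        · exact hx.2.1
        · exact fun h => h.1 hx
      · rcases hx with (hx | hx) | hx
        · exact hx.2.2.1
        · exact fun h => h.1 hx
        · exact fun h => h₁.inD_disjoint h₂ hnc₁₂ hx h
      · rcases hx with ((hx | hx) | hx) | hx
        · exact hx.2.2.2
        · exact fun h => h.1 hx
        · exact fun h => h₁.inD_disjoint h₃ hnc₁₃ hx h
        · exact fun h => h₂.inD_disjoint h₃ hnc₂₃ hx h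
    have e₁' : D₁.card = m₁ * (n₂ * n₃ * M) := by
      refine Nat.eq_of_mul_eq_mul_right (show 0 < n₁ by omega) ?_
      rw [q₁, hM, hNdef]; ring
    have e₂' : D₂.card = m₂ * (n₁ * n₃ * M) := by
      refine Nat.eq_of_mul_eq_mul_right (show 0 < n₂ by omega) ?_
      rw [q₂, hM, hNdef]; ring
    have e₃' : D₃.card = m₃ * (n₁ * n₂ * M) := by
      refine Nat.eq_of_mul_eq_mul_right (show 0 < n₃ by omega) ?_
      rw [q₃, hM, hNdef]; ring
    rw [hM, e₁', e₂', e₃'] at hpart
    have g₁ : 2 * m₁ + 1 = n₁ := by omega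
    have g₂ : 4 * m₂ + 1 = n₂ := by omega
    have g₃ : 4 * m₃ + 1 = n₃ := by omega
    refine Nat.add_left_cancel (n := 2 * (2 * m₁ * (n₂ * n₃ * M)) + 4 * m₂ * (n₁ * n₃ * M) +
      4 * m₃ * (n₁ * n₂ * M)) ?_
    have hl : 2 * (2 * m₁ + 1) * (n₂ * n₃ * M) + (4 * m₂ + 1) * (n₁ * n₃ * M) +
        (4 * m₃ + 1) * (n₁ * n₂ * M) = 4 * (N * M) := by
      rw [g₁, g₂, g₃, hNdef]; ring
    linarith
  have h4M : 4 ∣ M := by
    have hfd : 4 ∣ N * M := hM ▸ hf ▸ orderOf_dvd_natCard f
    have hNodd : Odd N := (ho₁.mul ho₂).mul ho₃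
    exact (Nat.Coprime.pow_left 2 (Nat.coprime_two_left.2 hNodd)).dvd_of_dvd_mul_left hfd
  -- with one extra character there is a single class of involutions
  have hone : v = 1 → τ % 2 = 1 ∧ τ ∣ M := by
    intro hv'
    have hU' : U = Finset.univ := by
      refine Finset.eq_univ_of_card U (le_antisymm (Finset.card_le_univ U) ?_)
      have : v = Fintype.card (Cfsg.IrrCharacter G) - S.card := by rw [hv, Finset.card_compl]
      omega
    have hall : ∀ x : G, orderOf x = 2 → IsConj t x := by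
      intro x hx
      have hx' : ConjClasses.mk x ∈ U := hU' ▸ Finset.mem_univ _
      obtain ⟨a, b, c⟩ := hout_of_even x ⟨1, by omega⟩
      simp only [hU, Finset.mem_union, Five, Finset.mem_insert, Finset.mem_singleton] at hx'
      rcases hx' with ((h | h) | h) | h | h | h | h | h
      · exact absurd (hmk h) a
      · exact absurd (hmk h) b
      · exact absurd (hmk h) c
      · exact absurd h (hordne (by rw [orderOf_one]; omega))
      · exact (ConjClasses.mk_eq_mk_iff_isConj.1 h).symm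
      · exact absurd h (hordne (by omega))
      · exact absurd h (hordne (by omega))
      · exact absurd h (hordne (by omega))
    haveI : Fact (Nat.Prime 2) := ⟨Nat.prime_two⟩
    obtain ⟨P⟩ : Nonempty (Sylow 2 G) := inferInstance
    obtain ⟨z, hzC, hz⟩ : ∃ z : G, (∀ x ∈ (P : Subgroup G), x * z = z * x) ∧ orderOf z = 2 := by
      have h2 : 2 ∣ Nat.card G := ht ▸ orderOf_dvd_natCard t
      haveI : Nontrivial (P : Subgroup G) := by
        refine (Subgroup.nontrivial_iff_ne_bot _).2 fun hb => P.not_dvd_index ?_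
        rw [hb, Subgroup.index_bot]; exact h2
      haveI := P.isPGroup'.center_nontrivial
      have hc2 : 2 ∣ Nat.card (Subgroup.center (P : Subgroup G)) := by
        have hc := P.isPGroup'.to_subgroup (Subgroup.center (P : Subgroup G))
        obtain ⟨j, hj⟩ := IsPGroup.iff_card.1 hc
        rcases Nat.eq_zero_or_pos j with rfl | hjpos
        · rw [pow_zero] at hj
          exact absurd hj (ne_of_gt Finite.one_lt_card)
        · rw [hj]; exact dvd_pow_self 2 hjpos.ne'
      obtain ⟨z, hz⟩ := exists_prime_orderOf_dvd_card' 2 hc2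
      exact ⟨((z : (P : Subgroup G)) : G),
        fun x hx => congrArg Subtype.val (Subgroup.mem_center_iff.1 z.2 ⟨x, hx⟩),
        by rw [Subgroup.orderOf_coe, Subgroup.orderOf_coe, hz]⟩
    have hT : J.card = Nat.card {x : G // IsConj x z} := by
      rw [Nat.card_eq_fintype_card, Fintype.card_subtype, hJ, invols]
      congr 1
      ext x
      simp only [Finset.mem_filter, Finset.mem_univ, true_and]
      exact ⟨fun hx => ((hall x hx).symm.trans (hall z hz)), fun hx => invols_conj hz hx.symm⟩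
    have hidx := card_conjugates_mul z
    rw [← hT] at hidx
    have hP : (P : Subgroup G) ≤ Subgroup.centralizer ({z} : Set G) := fun x hx =>
      Subgroup.mem_centralizer_singleton_iff.2 (hzC x hx)
    refine ⟨Nat.odd_iff.1 (Nat.not_even_iff_odd.1 fun hev => P.not_dvd_index ?_), ?_⟩
    · refine dvd_trans ?_ (Subgroup.index_dvd_of_le hP)
      have hi := (Subgroup.centralizer ({z} : Set G)).index_mul_card
      rw [← hidx, hτ] at hi
      rw [Nat.eq_of_mul_eq_mul_right Nat.card_pos hi]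
      exact (even_iff_two_dvd.1 hev).mul_left N
    · refine Nat.dvd_of_mul_dvd_mul_left hNpos ?_
      rw [← hτ, ← hM, ← hidx]
      exact Dvd.intro _ rfl
  exact no_solution (n₁ := n₁) (n₂ := n₂) (n₃ := n₃) (m₁ := m₁) (m₂ := m₂) (m₃ := m₃) (m := m)
    (M := M) (τ := τ) (s := s) (v := v) (by omega) (by omega) (by omega) hF₁m hF₂m hF₃m rfl
    c₁₂ c₁₃ c₂₃ (by omega) hlo hMle h4M hcong hpairs hFS hone

end CfsgLib.Recognition.SelfCentSystem
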