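import Cfsg.Agent.Lib.Char.TICover.Family
import Cfsg.Agent.Lib.Char.Orth

/-!
# The characters seen by an abelian trivial intersection Frobenius kernel

For an abelian kernel `H` of a TI Frobenius subgroup `L`, the multiplicity vectors of the
functions `(1 - l)^G`, `l` a nontrivial linear character of `H`.
-/

set_option autoImplicit false
set_option linter.style.haveILetI false

open scoped ComplexConjugate

namespace CfsgLib.Recognition.SelfCentSystem

open CfsgLib.Char CfsgLib.Char.TICover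

variable {G : Type*} [Group G] [Fintype G]

/-- The trivial character. -/
noncomputable def chiOne : Cfsg.IrrCharacter G := ⟨fun _ => 1, isIrrCharacter_one⟩

/-- The multiplicity vectors `z b` of a family of `m` functions with Gram matrix `e + δ`,
each of which is a common vector `T` minus `ε` at the exceptional character `μ b`. -/
structure Fam (H : Subgroup G) where
  m : ℕ
  e : ℕ
  ε : ℤ
  T : Cfsg.IrrCharacter G → ℤ
  μ : Fin m → Cfsg.IrrCharacter G
  z : Fin m → Cfsg.IrrCharacter G → ℤ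
  f : Fin m → G → ℂ
  hq : m * e + 1 = Nat.card H
  hε : ε = 1 ∨ ε = -1
  μ_inj : Function.Injective μ
  coef : ∀ b χ, (z b χ : ℂ) = Cfsg.classInner (f b) (χ : G → ℂ)
  isClass : ∀ b, Cfsg.IsClassFunction G (f b)
  supp : ∀ b y, f b y ≠ 0 → InD H y
  shape : ∀ b χ, z b χ = T χ - ε * (if χ = μ b then 1 else 0)
  z_one : ∀ b, z b chiOne = 1
  gram : ∀ b b', ∑ χ, z b χ * z b' χ = (e : ℤ) + if b = b' then 1 else 0
  vanish : ∀ χ : Cfsg.IrrCharacter G, (∀ b, z b χ = 0) →
    (∀ a ∈ H, a ≠ 1 → (χ : G → ℂ) a = 0) ∧ ∃ c : ℕ, (χ : G → ℂ) 1 = ((c * Nat.card H : ℕ) : ℂ)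

theorem classInner_eq_sum_mul {f g : G → ℂ} (hf : Cfsg.IsClassFunction G f)
    {a b : Cfsg.IrrCharacter G → ℤ} (ha : ∀ χ, (a χ : ℂ) = Cfsg.classInner f (χ : G → ℂ))
    (hb : ∀ χ, (b χ : ℂ) = Cfsg.classInner g (χ : G → ℂ)) :
    Cfsg.classInner f g = ((∑ χ, a χ * b χ : ℤ) : ℂ) := by
  rw [classInner_eq_sum_irr hf, Int.cast_sum]
  refine Finset.sum_congr rfl fun χ _ => ?_
  rw [← ha, ← classInner_conj_symm g (χ : G → ℂ), ← hb, map_intCast, Int.cast_mul]

/-- A TI Frobenius subgroup with abelian kernel of index `e` has a family, as soon as the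
kernel has more than `e + 1` elements. -/
theorem exists_fam {H L : Subgroup G} (S : Setting H L) (hab : ∀ a ∈ H, ∀ b ∈ H, a * b = b * a)
    {e : ℕ} (he : H.relIndex L = e) (hbig : e + 1 < Nat.card H) :
    ∃ F : Fam H, F.e = e ∧ 2 ≤ F.m := by
  classical
  cases nonempty_fintype H
  cases nonempty_fintype L
  letI : CommGroup H :=
    { (inferInstance : Group H) with mul_comm := fun a b => Subtype.ext (hab a a.2 b b.2) }
  haveI : Finite (H →* ℂˣ) := Finite.of_equiv _ homEquivLinear.symm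
  cases nonempty_fintype (H →* ℂˣ)
  have hcardL : Nat.card L = Nat.card H * e := by
    rw [← he, ← Subgroup.relIndex_bot_left H, ← Subgroup.relIndex_bot_left L]
    exact (Subgroup.relIndex_mul_relIndex ⊥ H L bot_le S.lt.le).symm
  have hHpos : 0 < Nat.card H := Nat.card_pos
  have hH0 : (Nat.card H : ℂ) ≠ 0 := Nat.cast_ne_zero.mpr hHpos.ne'
  have heq : ((Nat.card L : ℂ) / Nat.card H) = (e : ℂ) := by
    rw [hcardL, Nat.cast_mul, mul_div_cancel_left₀ _ hH0]
  set Λ := (Finset.univ : Finset (H →* ℂˣ)).filter (fun l => l ≠ 1) with hΛ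
  have hΛmem : ∀ l, l ∈ Λ ↔ l ≠ 1 := fun l => by simp [hΛ]
  set B := Λ.image S.beta with hB
  have hR : ∀ l l' : H →* ℂˣ, l ≠ 1 → l' ≠ 1 →
      (S.beta l = S.beta l' ↔ ∃ x : L, l'.comp (S.conjH x) = l) := by
    intro l l' hl hl'
    have hsym : (∃ x : L, l'.comp (S.conjH x) = l) → ∃ x : L, l.comp (S.conjH x) = l' := by
      rintro ⟨x, rfl⟩
      exact ⟨x⁻¹, by rw [MonoidHom.comp_assoc, ← Setting.conjH_mul, inv_mul_cancel,
        Setting.conjH_one, MonoidHom.comp_id]⟩
    refine ⟨fun h => ?_, fun h => ?_⟩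
    · by_contra hc
      have h1 := S.classInner_beta hl hl'
      rw [← h, S.classInner_beta hl hl, if_neg hc,
        if_pos ⟨1, by rw [Setting.conjH_one, MonoidHom.comp_id]⟩] at h1
      norm_num at h1
    · refine sub_eq_zero.mp (classInner_self_eq_zero.mp ?_)
      rw [classInner_sub_left, classInner_sub_right, classInner_sub_right,
        S.classInner_beta hl hl, S.classInner_beta hl hl', S.classInner_beta hl' hl,
        S.classInner_beta hl' hl', if_pos h, if_pos (hsym h),
        if_pos ⟨1, by rw [Setting.conjH_one, MonoidHom.comp_id]⟩,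
        if_pos ⟨1, by rw [Setting.conjH_one, MonoidHom.comp_id]⟩]
      ring
  have hne1 : ∀ (x : L) {l : H →* ℂˣ}, l ≠ 1 → l.comp (S.conjH x) ≠ 1 := fun x l hl h =>
    hl (MonoidHom.ext fun a => by
      have hax : S.conjH x (S.conjH x⁻¹ a) = a :=
        Subtype.ext (by simp [Setting.conjH_apply, mul_assoc])
      rw [← hax]
      exact DFunLike.congr_fun h _)
  -- fibres have `e` elements
  have hfib : ∀ b ∈ B, (Λ.filter fun l => S.beta l = b).card = e := by
    intro b hb
    obtain ⟨l, hl, rfl⟩ := Finset.mem_image.mp hb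
    rw [hΛmem] at hl
    set C := Λ.filter fun l' => S.beta l' = S.beta l with hC
    have hmaps : ∀ x ∈ (Finset.univ : Finset L), l.comp (S.conjH x) ∈ C := fun x _ => by
      rw [hC, Finset.mem_filter, hΛmem]
      exact ⟨hne1 x hl, (hR _ _ (hne1 x hl) hl).mpr ⟨x, rfl⟩⟩
    have hcard := Finset.card_eq_sum_card_fiberwise (f := fun x : L => l.comp (S.conjH x)) hmaps
    rw [Finset.sum_congr rfl fun l' hl' => ?_, Finset.sum_const, smul_eq_mul, Finset.card_univ,
      ← Nat.card_eq_fintype_card, hcardL, mul_comm] at hcard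
    · exact (Nat.eq_of_mul_eq_mul_right hHpos hcard).symm
    · rw [hC, Finset.mem_filter, hΛmem] at hl'
      obtain ⟨x₀, hx₀⟩ := (hR _ _ hl'.1 hl).mp hl'.2
      exact S.card_fibre hl hx₀
  have hcardH : Nat.card (H →* ℂˣ) = Nat.card H :=
    CommGroup.card_monoidHom_of_hasEnoughRootsOfUnity H ℂ
  have hq : B.card * e + 1 = Nat.card H := by
    have h1 : Λ.card = B.card * e := by
      rw [Finset.card_eq_sum_card_image S.beta Λ, Finset.sum_congr rfl hfib, Finset.sum_const,
        smul_eq_mul]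
    have h2 : Λ.card + 1 = Nat.card H := by
      rw [hΛ, Finset.filter_ne', Finset.card_erase_of_mem (Finset.mem_univ _), Finset.card_univ,
        ← Nat.card_eq_fintype_card, hcardH]
      omega
    omega
  have htwo : 2 ≤ B.card := by
    by_contra h
    have h0 : B.card * e ≤ 1 * e := Nat.mul_le_mul_right e (by omega)
    omega
  have hBl : ∀ b ∈ B, ∃ l, l ≠ 1 ∧ S.beta l = b := fun b hb => by
    obtain ⟨l, hl, h⟩ := Finset.mem_image.mp hb
    exact ⟨l, (hΛmem l).mp hl, h⟩
  have hBgram : ∀ b ∈ B, ∀ b' ∈ B,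
      Cfsg.classInner b b' = (e : ℂ) + if b = b' then 1 else 0 := by
    intro b hb b' hb'
    obtain ⟨l, hl, rfl⟩ := hBl b hb
    obtain ⟨l', hl', rfl⟩ := hBl b' hb'
    rw [S.classInner_beta hl hl', heq]
    simp only [hR l l' hl hl']
  have hBgen : ∀ b ∈ B, Cfsg.IsGeneralizedCharacter G b := fun b hb => by
    obtain ⟨l, -, rfl⟩ := hBl b hb
    exact IsGeneralizedCharacter.indFun H (Setting.isGen_one_sub l)
  have hB1 : ∀ b ∈ B, b 1 = 0 := fun b hb => by
    obtain ⟨l, -, rfl⟩ := hBl b hb; exact S.beta_one l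
  have hBone : ∀ b ∈ B, Cfsg.classInner b (fun _ => 1) = 1 := fun b hb => by
    obtain ⟨l, hl, rfl⟩ := hBl b hb
    rw [Setting.beta, classInner_indFun H _ (fun _ _ => rfl),
      show (fun a : H => 1 - (l a : ℂ)) = (fun _ => 1) - fun a : H => (l a : ℂ) from rfl,
      classInner_sub_left, classInner_irr_self isIrrCharacter_one,
      classInner_irr_ne (isIrrCharacter_hom l) isIrrCharacter_one
        fun h => hl (coe_hom_injective (h.trans (by ext; simp))), sub_zero]
  obtain ⟨b₀, hb₀⟩ := Finset.card_pos.mp (show 0 < B.card by omega)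
  let τ : ↥B → G → ℂ := fun b => b₀ - b.1
  obtain ⟨ε, hε, μ, hμ, hμinj, hμτ⟩ := exists_exceptional (⟨b₀, hb₀⟩ : ↥B) τ (sub_self _)
    (fun b => IsGeneralizedCharacter.sub (hBgen b₀ hb₀) (hBgen b.1 b.2))
    (fun b => by simp [τ, hB1 b₀ hb₀, hB1 b.1 b.2]) (fun b b' hb hb' => by
      have h0 : b₀ ≠ b.1 := fun h => hb (Subtype.ext h.symm)
      have h0' : b₀ ≠ b'.1 := fun h => hb' (Subtype.ext h.symm)
      simp only [τ]
      rw [classInner_sub_left, classInner_sub_right, classInner_sub_right, hBgram _ hb₀ _ hb₀,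
        hBgram _ hb₀ _ b'.2, hBgram _ b.2 _ hb₀, hBgram _ b.2 _ b'.2, if_pos rfl, if_neg h0',
        if_neg h0.symm]
      constructor
      · intro h; rw [h, if_pos rfl]; ring
      · intro h; rw [if_neg fun h' => h (Subtype.ext h')]; ring)
  obtain ⟨εz, hεz, rfl⟩ : ∃ εz : ℤ, (εz = 1 ∨ εz = -1) ∧ ε = (εz : ℂ) := by
    rcases hε with rfl | rfl
    · exact ⟨1, Or.inl rfl, by norm_num⟩
    · exact ⟨-1, Or.inr rfl, by norm_num⟩
  choose zB hzB using fun (b : ↥B) (χ : Cfsg.IrrCharacter G) =>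
    IsGeneralizedCharacter.classInner_int (hBgen b.1 b.2)
      (IsCharacter.isGeneralizedCharacter (isCharacter_irr χ))
  let M : ↥B → Cfsg.IrrCharacter G := fun b => ⟨μ b, hμ b⟩
  let s₀ : ↥B := ⟨b₀, hb₀⟩
  let T : Cfsg.IrrCharacter G → ℤ := fun χ => zB s₀ χ + εz * if χ = M s₀ then 1 else 0
  have hshape : ∀ b χ, zB b χ = T χ - εz * (if χ = M b then 1 else 0) := by
    intro b χ
    have h := congrArg (fun f => Cfsg.classInner f (χ : G → ℂ)) (hμτ b)
    simp only [τ, classInner_sub_left, classInner_smul_left] at h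
    have h0 : Cfsg.classInner b₀ (χ : G → ℂ) = (zB s₀ χ : ℂ) := hzB s₀ χ
    rw [h0, hzB, classInner_irr (hμ b) χ.2, classInner_irr (hμ s₀) χ.2] at h
    have e1 : ∀ s : ↥B, (if μ s = (χ : G → ℂ) then (1 : ℂ) else 0) =
        ((if χ = M s then 1 else 0 : ℤ) : ℂ) := fun s => by
      by_cases hs : χ = M s
      · rw [if_pos hs, if_pos (by rw [hs])]; simp
      · rw [if_neg hs, if_neg fun h' => hs (Subtype.ext h'.symm)]; simp
    rw [e1 b, e1 ⟨b₀, hb₀⟩] at h
    have h' : (zB s₀ χ : ℂ) - (zB b χ : ℂ) =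
        ((εz * ((if χ = M b then 1 else 0) - if χ = M s₀ then 1 else 0) : ℤ) : ℂ) := by
      rw [h]; push_cast; rfl
    have h'' : zB s₀ χ - zB b χ = εz * ((if χ = M b then 1 else 0) - if χ = M s₀ then 1 else 0) := by
      exact_mod_cast h'
    simp only [T]
    linarith
  let σ : Fin B.card ≃ ↥B := B.equivFin.symm
  refine ⟨{ m := B.card, e := e, ε := εz, T := T, μ := fun k => M (σ k), z := fun k => zB (σ k)
            f := fun k => (σ k).1, hq := hq, hε := hεz, μ_inj := ?_
            coef := fun k χ => (hzB _ χ).symm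
            isClass := fun k => IsGeneralizedCharacter.isClassFunction (hBgen _ (σ k).2)
            supp := fun k y hy => ?_, shape := fun k χ => hshape _ χ, z_one := fun k => ?_
            gram := fun k k' => ?_, vanish := fun χ hχ => ?_ }, rfl, htwo⟩
  · exact fun k k' h => σ.injective (hμinj (congrArg Subtype.val h))
  · obtain ⟨l, -, hl⟩ := hBl _ (σ k).2
    exact S.beta_supp (by rwa [hl])
  · have h := hzB (σ k) chiOne
    rw [show ((chiOne : Cfsg.IrrCharacter G) : G → ℂ) = fun _ => 1 from rfl,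
      hBone _ (σ k).2] at h
    exact_mod_cast h.symm
  · have h := classInner_eq_sum_mul (IsGeneralizedCharacter.isClassFunction (hBgen _ (σ k).2))
      (fun χ => (hzB (σ k) χ).symm) (fun χ => (hzB (σ k') χ).symm)
    rw [hBgram _ (σ k).2 _ (σ k').2] at h
    have e1 : ((σ k).1 = (σ k').1) ↔ k = k' :=
      ⟨fun h => σ.injective (Subtype.ext h), fun h => by rw [h]⟩
    by_cases hkk : k = k'
    · rw [if_pos (e1.mpr hkk)] at h
      rw [if_pos hkk]
      exact_mod_cast h.symm
    · rw [if_neg fun h' => hkk (e1.mp h')] at h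
      rw [if_neg hkk]
      exact_mod_cast h.symm
  · set θ : H → ℂ := fun a => (χ : G → ℂ) a with hθ
    have hθchar : Cfsg.IsCharacter H θ := IsCharacter.restrict (isCharacter_irr χ) H
    obtain ⟨c, hc⟩ := IsCharacter.classInner_nat hθchar isCharacter_one
    have hall : ∀ ψ : Cfsg.IrrCharacter H, Cfsg.classInner θ (ψ : H → ℂ) = (c : ℂ) := by
      intro ψ
      obtain ⟨l, hl⟩ := exists_hom_of_apply_one_eq_one (IsIrrCharacter.isCharacter ψ.2)
        (apply_one_eq_one_of_comm (fun a b => mul_comm a b) ψ.2)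
      by_cases hl1 : l = 1
      · subst hl1
        rw [← hc, hl]
        congr 1
      · have hmem : S.beta l ∈ B := Finset.mem_image_of_mem _ ((hΛmem l).mpr hl1)
        have h0 : Cfsg.classInner (S.beta l) (χ : G → ℂ) = (zB ⟨_, hmem⟩ χ : ℂ) :=
          hzB ⟨_, hmem⟩ χ
        have hz : zB ⟨_, hmem⟩ χ = 0 := by
          have := hχ (σ.symm ⟨_, hmem⟩)
          rwa [Equiv.apply_symm_apply] at this
        rw [hz, Int.cast_zero, Setting.beta,
          classInner_indFun H _ (IsIrrCharacter.isClassFunction χ.2),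
          show (fun a : H => 1 - (l a : ℂ)) = (fun _ => 1) - fun a : H => (l a : ℂ) from rfl,
          classInner_sub_left] at h0
        have h1 : Cfsg.classInner (fun _ : H => (1 : ℂ)) θ = (c : ℂ) := by
          rw [← classInner_conj_symm θ, hc, Complex.conj_natCast]
        have h2 : Cfsg.classInner (fun a : H => (l a : ℂ)) θ = (c : ℂ) :=
          (sub_eq_zero.mp h0).symm.trans h1
        rw [hl, ← classInner_conj_symm (fun a : H => (l a : ℂ)), h2, Complex.conj_natCast]
    have hval : ∀ a : H, θ a = (c : ℂ) * if a = 1 then (Nat.card H : ℂ) else 0 := by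
      intro a
      rw [congrFun (IsClassFunction.eq_sum_irr (IsCharacter.isClassFunction hθchar)) a,
        Finset.sum_apply, ← regular_eq_sum_irr, Finset.mul_sum]
      refine Finset.sum_congr rfl fun ψ _ => ?_
      rw [Pi.smul_apply, hall, smul_eq_mul,
        apply_one_eq_one_of_comm (fun a b => mul_comm a b) ψ.2, one_mul]
    refine ⟨fun a ha ha1 => ?_, c, ?_⟩
    · have := hval ⟨a, ha⟩
      rw [if_neg fun h => ha1 (congrArg Subtype.val h), mul_zero] at this
      exact this
    · have := hval 1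
      rw [if_pos rfl] at this
      push_cast
      exact this

end CfsgLib.Recognition.SelfCentSystem
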