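import Cfsg.Agent.Lib.Recognition.SelfCentSystem.Count
import Cfsg.Agent.Lib.Recognition.CIT.Main

/-!
# The groups of the CIT list with three strongly self-centralising subgroups
-/

set_option autoImplicit false
set_option linter.style.haveILetI false

namespace CfsgLib.Recognition.SelfCentSystem

open CfsgLib.Char.TICover (InD)

variable {G : Type*} [Group G] [Finite G]

/-- An element whose order shares a prime with `|A|` is conjugate into `A`. -/
theorem SSC.orderOf_dvd {A : Subgroup G} {e : ℕ} (h : SSC A e) {r : ℕ} (hr : r.Prime)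
    (hrA : r ∣ Nat.card A) {x : G} (hrx : r ∣ orderOf x) : orderOf x ∣ Nat.card A := by
  have hx1 : x ≠ 1 := fun e => by rw [e, orderOf_one] at hrx; exact hr.not_dvd_one hrx
  by_contra hn
  have hD : ¬ InD A x := fun hD => hn (by
    obtain ⟨-, g, hg⟩ := hD
    have e1 : orderOf (g⁻¹ * x * g) = orderOf x := by
      simpa using orderOf_injective (MulAut.conj g⁻¹).toMonoidHom (MulAut.conj g⁻¹).injective x
    exact e1 ▸ Subgroup.orderOf_dvd_natCard A hg)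
  have h1 : r ∣ Nat.card (Subgroup.centralizer ({x} : Set G)) :=
    hrx.trans (Subgroup.orderOf_dvd_natCard _ (Subgroup.mem_centralizer_singleton_iff.2 rfl))
  exact hr.not_dvd_one ((Nat.Coprime.gcd_eq_one (h.coprime_centralizer hx1 hD)) ▸
    Nat.dvd_gcd hrA h1)

/-- Three odd pairwise coprime subgroup orders cannot share two cyclic subgroup orders. -/
theorem false_of_two {n₁ n₂ n₃ a b : ℕ}
    (c₁₂ : Nat.Coprime n₁ n₂) (c₁₃ : Nat.Coprime n₁ n₃) (c₂₃ : Nat.Coprime n₂ n₃)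
    (ha : a ≠ 1) (hb : b ≠ 1)
    (h₁ : a ∣ n₁ ∨ b ∣ n₁) (h₂ : a ∣ n₂ ∨ b ∣ n₂) (h₃ : a ∣ n₃ ∨ b ∣ n₃) : False := by
  rcases h₁ with h₁ | h₁ <;> rcases h₂ with h₂ | h₂
  · exact ha (Nat.eq_one_of_dvd_coprimes c₁₂ h₁ h₂)
  · rcases h₃ with h₃ | h₃
    · exact ha (Nat.eq_one_of_dvd_coprimes c₁₃ h₁ h₃)
    · exact hb (Nat.eq_one_of_dvd_coprimes c₂₃ h₂ h₃)
  · rcases h₃ with h₃ | h₃
    · exact ha (Nat.eq_one_of_dvd_coprimes c₂₃ h₂ h₃)
    · exact hb (Nat.eq_one_of_dvd_coprimes c₁₃ h₁ h₃)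
  · exact hb (Nat.eq_one_of_dvd_coprimes c₁₂ h₁ h₂)

theorem isoSuzuki [IsSimpleGroup G] (hna : ¬ IsMulCommutative G) (A₁ A₂ A₃ : Subgroup G)
    (h₁ : SSC A₁ 2) (h₂ : SSC A₂ 4) (h₃ : SSC A₃ 4)
    (hn₁ : 5 ≤ Nat.card A₁) (hn₂ : 5 < Nat.card A₂) (hn₃ : 5 < Nat.card A₃)
    (hnc₁₂ : ∀ g : G, A₁.map (MulAut.conj g).toMonoidHom ≠ A₂)
    (hnc₁₃ : ∀ g : G, A₁.map (MulAut.conj g).toMonoidHom ≠ A₃)
    (hnc₂₃ : ∀ g : G, A₂.map (MulAut.conj g).toMonoidHom ≠ A₃)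
    (hord : Nat.card G ≤ 3 * Nat.card A₁ ^ 2 * Nat.card A₂ ^ 2 * Nat.card A₃ ^ 2) :
    Cfsg.Lie.IsoSuzuki G := by
  classical
  have c₁₂ := h₁.coprime_card h₂ hnc₁₂
  have c₁₃ := h₁.coprime_card h₃ hnc₁₃
  have c₂₃ := h₂.coprime_card h₃ hnc₂₃
  rcases (isCIT A₁ A₂ A₃ h₁ h₂ h₃ hn₁ hn₂ hn₃ hnc₁₂ hnc₁₃ hnc₂₃ hord).classification hna with
    ⟨F, _, _, hq, ⟨φ⟩⟩ | ⟨F, _, _, hq, ⟨φ⟩⟩ | h
  · exfalso
    obtain ⟨p, hpF⟩ := CharP.exists F
    haveI := Fact.mk (CharP.char_is_prime F p)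
    obtain ⟨f, hp, hfq⟩ := FiniteField.card F p
    set q := Fintype.card F with hqdef
    set g := Nat.gcd 2 (q - 1) with hg
    have hcard : Nat.card G * g = q * (q - 1) * (q + 1) := by
      rw [Nat.card_congr φ.toEquiv, hg, hqdef, mul_comm, CfsgLib.Perm.ZGroup.card_psl2_gcd]
      ring
    have hex : ∀ k ∈ ({p, (q - 1) / g, (q + 1) / g} : Set ℕ), ∃ x : G, orderOf x = k := fun k hk => by
      obtain ⟨x, hx⟩ := CfsgLib.LocalEven.Spectrum.psl_exists (F := F) p k hk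
      exact ⟨φ.symm x, by rw [MulEquiv.orderOf_eq, hx]⟩
    have hgm : g ∣ q - 1 := hg ▸ Nat.gcd_dvd_right _ _
    have hq1 : 1 < q := Fintype.one_lt_card
    have hgp : g ∣ q + 1 := by
      have : g ∣ 2 := hg ▸ Nat.gcd_dvd_left _ _
      have h := (Nat.dvd_add hgm this)
      rwa [show q - 1 + 2 = q + 1 by omega] at h
    have main : ∀ {A : Subgroup G} {e : ℕ}, SSC A e → 2 ∣ e → 1 < Nat.card A →
        ∃ k ∈ ({p, (q - 1) / g, (q + 1) / g} : Set ℕ),
          (¬ ∃ j, k = 2 ^ j) ∧ k ∣ Nat.card A := by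
      intro A e h he hn
      obtain ⟨r, hr, hrA⟩ := Nat.exists_prime_and_dvd hn.ne'
      have hr2 : r ≠ 2 := fun e => Nat.not_even_iff_odd.2 (h.odd he)
        (even_iff_two_dvd.2 (e ▸ hrA))
      have hrG : r ∣ q * (q - 1) * (q + 1) :=
        hcard ▸ (hrA.trans (Subgroup.card_subgroup_dvd_card A)).mul_right g
      have hnp : ∀ {k}, r ∣ k → ¬ ∃ j, k = 2 ^ j := fun hk ⟨j, hj⟩ =>
        hr2 ((Nat.prime_dvd_prime_iff_eq hr Nat.prime_two).1 (hr.dvd_of_dvd_pow (hj ▸ hk)))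
      have hdiv : ∀ {k}, g ∣ k → r ∣ k → r ∣ k / g := fun {k} hgk hrk => by
        have hcop : Nat.Coprime r g := (Nat.coprime_primes hr Nat.prime_two).2 hr2 |>.coprime_dvd_right
          (hg ▸ Nat.gcd_dvd_left _ _)
        exact hcop.dvd_of_dvd_mul_right (by rwa [Nat.div_mul_cancel hgk])
      obtain ⟨k, hk, hrk⟩ : ∃ k ∈ ({p, (q - 1) / g, (q + 1) / g} : Set ℕ), r ∣ k := by
        rcases (Nat.Prime.dvd_mul hr).1 hrG with h' | h'
        · rcases (Nat.Prime.dvd_mul hr).1 h' with h'' | h''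
          · exact ⟨p, by simp, hr.dvd_of_dvd_pow (hfq ▸ h'')⟩
          · exact ⟨_, by simp, hdiv hgm h''⟩
        · exact ⟨_, by simp, hdiv hgp h'⟩
      obtain ⟨x, hx⟩ := hex k hk
      exact ⟨k, hk, hnp hrk, hx ▸ h.orderOf_dvd hr hrA (hx.symm ▸ hrk)⟩
    -- one of the three orders is a power of two
    obtain ⟨a, b, hab⟩ : ∃ a b : ℕ, ∀ k ∈ ({p, (q - 1) / g, (q + 1) / g} : Set ℕ),
        (¬ ∃ j, k = 2 ^ j) → k = a ∨ k = b := by
      have hkey : ∀ k, (∃ j, k = 2 ^ j) → (k = p ∨ k = (q - 1) / g ∨ k = (q + 1) / g) →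
          ∃ a b : ℕ, ∀ l ∈ ({p, (q - 1) / g, (q + 1) / g} : Set ℕ),
            (¬ ∃ j, l = 2 ^ j) → l = a ∨ l = b := by
        intro k hk hcases
        rcases hcases with rfl | rfl | rfl
        · exact ⟨(q - 1) / g, (q + 1) / g, fun l hl hn => by
            rcases hl with rfl | rfl | rfl
            exacts [absurd hk hn, Or.inl rfl, Or.inr rfl]⟩
        · exact ⟨p, (q + 1) / g, fun l hl hn => by
            rcases hl with rfl | rfl | rfl
            exacts [Or.inl rfl, absurd hk hn, Or.inr rfl]⟩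
        · exact ⟨p, (q - 1) / g, fun l hl hn => by
            rcases hl with rfl | rfl | rfl
            exacts [Or.inl rfl, Or.inr rfl, absurd hk hn]⟩
      rcases hq with hq9 | ⟨n, hn⟩ | ⟨hpr, k, hk⟩
      · refine hkey ((q - 1) / g) ⟨2, ?_⟩ (Or.inr (Or.inl rfl))
        rw [hg, hq9]; decide
      · refine hkey p ⟨1, ?_⟩ (Or.inl rfl)
        rw [pow_one]
        exact (Nat.prime_dvd_prime_iff_eq hp Nat.prime_two).1
          (hp.dvd_of_dvd_pow (hn ▸ hfq ▸ dvd_pow_self p f.ne_zero))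
      · have hk0 : 1 ≤ k := by
          rcases Nat.eq_zero_or_pos k with rfl | h0
          · norm_num at hk
            rcases hk with hk | hk
            · have := CfsgLib.Perm.ZGroup.three_lt_of_simple_psl φ
              omega
            · have := CfsgLib.Perm.ZGroup.three_lt_of_simple_psl φ
              omega
          · exact h0
        obtain ⟨j, rfl⟩ : ∃ j, k = j + 1 := ⟨k - 1, by omega⟩
        rw [pow_succ] at hk
        have h3 := CfsgLib.Perm.ZGroup.three_lt_of_simple_psl φ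
        have hodd : g = 2 := hg ▸ Nat.gcd_eq_left (by
          rcases hpr.eq_two_or_odd with h2 | h2 <;> omega)
        rcases hk with hk | hk
        · exact hkey ((q - 1) / g) ⟨j, by rw [hodd]; omega⟩ (Or.inr (Or.inl rfl))
        · exact hkey ((q + 1) / g) ⟨j, by rw [hodd]; omega⟩ (Or.inr (Or.inr rfl))
    obtain ⟨k₁, hk₁, hn₁', hd₁⟩ := main h₁ (dvd_refl 2) (by omega)
    obtain ⟨k₂, hk₂, hn₂', hd₂⟩ := main h₂ (by norm_num) (by omega)
    obtain ⟨k₃, hk₃, hn₃', hd₃⟩ := main h₃ (by norm_num) (by omega)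
    have h1ne : ∀ {k}, (¬ ∃ j, k = 2 ^ j) → k ≠ 1 := fun h e => h ⟨0, by rw [e, pow_zero]⟩
    rcases hab k₁ hk₁ hn₁' with rfl | rfl <;> rcases hab k₂ hk₂ hn₂' with rfl | rfl <;>
      rcases hab k₃ hk₃ hn₃' with rfl | rfl <;>
      first
        | exact h1ne hn₁' (Nat.eq_one_of_dvd_coprimes c₁₂ hd₁ hd₂)
        | exact h1ne hn₁' (Nat.eq_one_of_dvd_coprimes c₁₃ hd₁ hd₃)
        | exact h1ne hn₂' (Nat.eq_one_of_dvd_coprimes c₂₃ hd₂ hd₃)
  · exfalso
    have hc : Nat.card G = 20160 := by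
      rw [Nat.card_congr φ.toEquiv, CfsgLib.SmallGroups.M21.card_psl F hq]
    have o₁ := h₁.odd (dvd_refl 2)
    have o₂ := h₂.odd (by norm_num)
    have o₃ := h₃.odd (by norm_num)
    have hdvd : Nat.card A₁ * Nat.card A₂ * Nat.card A₃ ∣ 2 ^ 6 * 315 := by
      have := Nat.Coprime.mul_dvd_of_dvd_of_dvd (Nat.Coprime.mul_left c₁₃ c₂₃)
        (c₁₂.mul_dvd_of_dvd_of_dvd (Subgroup.card_subgroup_dvd_card A₁)
          (Subgroup.card_subgroup_dvd_card A₂)) (Subgroup.card_subgroup_dvd_card A₃)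
      rwa [hc] at this
    have h315 := (Nat.Coprime.pow_right 6 (Nat.coprime_two_right.2
      ((o₁.mul o₂).mul o₃))).dvd_of_dvd_mul_left hdvd
    have hle := Nat.le_of_dvd (by norm_num) h315
    letI := Fintype.ofFinite G
    have e2 := (h₂.classes_card (G := G) (by norm_num)).1
    have e3 := (h₃.classes_card (G := G) (by norm_num)).1
    obtain ⟨a, ha⟩ := o₂
    obtain ⟨b, hb⟩ := o₃
    have h5 : 5 * 9 * 9 ≤ Nat.card A₁ * Nat.card A₂ * Nat.card A₃ :=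
      Nat.mul_le_mul (Nat.mul_le_mul hn₁ (by omega)) (by omega)
    omega
  · exact h

end CfsgLib.Recognition.SelfCentSystem
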