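import Cfsg.Agent.Lib.Char.TICover.Family
import Cfsg.Agent.Lib.Char.Orth

/-!
# Strongly self-centralising subgroups
-/

set_option autoImplicit false
set_option linter.style.haveILetI false

namespace CfsgLib.Recognition.SelfCentSystem

open CfsgLib.Char.TICover (InD Setting)

variable {G : Type*} [Group G] [Finite G]

/-- `A` is strongly self-centralising of index `e` in its normaliser. -/
structure SSC (A : Subgroup G) (e : ℕ) : Prop where
  cent : ∀ a ∈ A, a ≠ 1 → Subgroup.centralizer ({a} : Set G) = A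
  idx : A.relIndex (Subgroup.normalizer (A : Set G)) = e
  ne_bot : A ≠ ⊥

namespace SSC

variable {A B : Subgroup G} {e e' : ℕ} (h : SSC A e)
include h

omit [Finite G] in
theorem mem_of_commute {a x : G} (ha : a ∈ A) (ha1 : a ≠ 1) (hx : x * a = a * x) : x ∈ A := by
  rw [← h.cent a ha ha1]
  exact Subgroup.mem_centralizer_singleton_iff.2 hx

omit [Finite G] in
theorem comm : ∀ a ∈ A, ∀ b ∈ A, a * b = b * a := by
  intro a ha b hb
  by_cases ha1 : a = 1
  · rw [ha1, one_mul, mul_one]
  rw [← h.cent a ha ha1] at hb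
  exact (Subgroup.mem_centralizer_singleton_iff.1 hb).symm

theorem exists_sylow_le {r : ℕ} [Fact r.Prime] (hr : r ∣ Nat.card A) :
    ∃ R : Sylow r G, (R : Subgroup G) ≤ A := by
  obtain ⟨a, ha⟩ := exists_prime_orderOf_dvd_card' r hr
  have hao : orderOf (a : G) = r := by rw [Subgroup.orderOf_coe, ha]
  have ha1 : (a : G) ≠ 1 := fun e => by
    rw [e, orderOf_one] at hao; exact (Fact.out : r.Prime).one_lt.ne hao
  have hp : IsPGroup r (Subgroup.zpowers (a : G)) :=
    IsPGroup.of_card (n := 1) (by rw [Nat.card_zpowers, hao, pow_one])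
  obtain ⟨R, hR⟩ := hp.exists_le_sylow
  have haR : (a : G) ∈ (R : Subgroup G) := hR (Subgroup.mem_zpowers _)
  haveI : Nontrivial (R : Subgroup G) :=
    ⟨⟨⟨(a : G), haR⟩, 1, fun e => ha1 (congrArg Subtype.val e)⟩⟩
  haveI := R.isPGroup'.center_nontrivial
  obtain ⟨z, hz⟩ := exists_ne (1 : Subgroup.center (R : Subgroup G))
  have hzc : ∀ x ∈ (R : Subgroup G), x * ((z : (R : Subgroup G)) : G) =
      ((z : (R : Subgroup G)) : G) * x := fun x hx =>
    congrArg Subtype.val (Subgroup.mem_center_iff.1 z.2 ⟨x, hx⟩)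
  have hz1 : ((z : (R : Subgroup G)) : G) ≠ 1 := fun e => hz (Subtype.ext (Subtype.ext e))
  have hzA : ((z : (R : Subgroup G)) : G) ∈ A :=
    h.mem_of_commute a.2 ha1 (hzc _ haR).symm
  exact ⟨R, fun x hx => h.mem_of_commute hzA hz1 (hzc x hx)⟩

theorem coprime_index : Nat.Coprime (Nat.card A) A.index := by
  refine Nat.coprime_of_dvd fun r hr h1 h2 => ?_
  haveI : Fact r.Prime := ⟨hr⟩
  obtain ⟨R, hR⟩ := h.exists_sylow_le h1
  exact R.not_dvd_index (h2.trans (Subgroup.index_dvd_of_le hR))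

omit [Finite G] in
theorem dvd_index : e ∣ A.index :=
  h.idx ▸ Dvd.intro _ (Subgroup.relIndex_mul_index Subgroup.le_normalizer)

theorem odd (he : 2 ∣ e) : Odd (Nat.card A) := by
  rw [← Nat.not_even_iff_odd]
  intro hev
  have := Nat.eq_one_of_dvd_coprimes h.coprime_index hev.two_dvd (he.trans h.dvd_index)
  omega

/-- Two elements of `A` conjugate in `G` are conjugate in the normaliser. -/
theorem ti (x a : G) (ha : a ∈ A) (ha1 : a ≠ 1) (hx : x⁻¹ * a * x ∈ A) :
    x ∈ Subgroup.normalizer (A : Set G) := by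
  have hle : A.map (MulAut.conj x⁻¹).toMonoidHom ≤ A := by
    rintro _ ⟨b, hb, rfl⟩
    have hcomm : x⁻¹ * b * x⁻¹⁻¹ * (x⁻¹ * a * x) = x⁻¹ * a * x * (x⁻¹ * b * x⁻¹⁻¹) := by
      rw [inv_inv]
      calc x⁻¹ * b * x * (x⁻¹ * a * x) = x⁻¹ * (b * a) * x := by group
        _ = x⁻¹ * (a * b) * x := by rw [h.comm b hb a ha]
        _ = _ := by group
    refine h.mem_of_commute hx (fun e => ha1 ?_) hcomm
    calc a = x * (x⁻¹ * a * x) * x⁻¹ := by group
      _ = 1 := by rw [e]; group
  have heq : A.map (MulAut.conj x⁻¹).toMonoidHom = A :=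
    Subgroup.eq_of_le_of_card_ge hle
      (le_of_eq (Subgroup.card_map_of_injective (MulAut.conj x⁻¹).injective).symm)
  have := Subgroup.mem_normalizer_iff_map_conj_eq.2 heq
  simpa using inv_mem this

theorem setting (he : e ≠ 1) : Setting A (Subgroup.normalizer (A : Set G)) where
  lt := lt_of_le_of_ne Subgroup.le_normalizer fun e0 => he (by
    rw [← h.idx, ← e0, Subgroup.relIndex_self])
  ne_bot := h.ne_bot
  norm x hx a ha := by
    have := (Subgroup.mem_normalizer_iff.1 (inv_mem hx) a).1 ha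
    rwa [inv_inv] at this
  cent a ha ha1 x _ hx := h.mem_of_commute ha ha1 hx
  ti := h.ti

omit [Finite G] in
/-- Conjugate subgroups when they share a non-identity element up to conjugation. -/
theorem map_eq_of_mem (h' : SSC B e') {a g : G} (ha : a ∈ A) (ha1 : a ≠ 1)
    (hg : g * a * g⁻¹ ∈ B) : A.map (MulAut.conj g).toMonoidHom = B := by
  have hb1 : g * a * g⁻¹ ≠ 1 := fun e => ha1 (conj_eq_one_iff.1 e)
  refine le_antisymm ?_ fun b hb => ⟨g⁻¹ * b * g, ?_, by simp [mul_assoc]⟩
  · rintro _ ⟨b, hb, rfl⟩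
    refine h'.mem_of_commute hg hb1 ?_
    show g * b * g⁻¹ * (g * a * g⁻¹) = g * a * g⁻¹ * (g * b * g⁻¹)
    calc g * b * g⁻¹ * (g * a * g⁻¹) = g * (b * a) * g⁻¹ := by group
      _ = g * (a * b) * g⁻¹ := by rw [h.comm b hb a ha]
      _ = _ := by group
  · refine h.mem_of_commute ha ha1 ?_
    have := h'.comm b hb _ hg
    calc g⁻¹ * b * g * a = g⁻¹ * (b * (g * a * g⁻¹)) * g := by group
      _ = g⁻¹ * (g * a * g⁻¹ * b) * g := by rw [this]
      _ = _ := by group

variable (h' : SSC B e') (hnc : ∀ g : G, A.map (MulAut.conj g).toMonoidHom ≠ B)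
include h' hnc

theorem coprime_card : Nat.Coprime (Nat.card A) (Nat.card B) := by
  refine Nat.coprime_of_dvd fun r hr h1 h2 => ?_
  haveI : Fact r.Prime := ⟨hr⟩
  obtain ⟨R, hR⟩ := h.exists_sylow_le h1
  obtain ⟨R', hR'⟩ := h'.exists_sylow_le h2
  obtain ⟨g, hg⟩ := MulAction.exists_smul_eq G R R'
  obtain ⟨a, haR, ha1⟩ : ∃ a ∈ (R : Subgroup G), a ≠ 1 := by
    refine (Subgroup.bot_or_exists_ne_one (R : Subgroup G)).resolve_left fun hb => ?_
    exact R.not_dvd_index (by
      rw [hb, Subgroup.index_bot]; exact h1.trans (Subgroup.card_subgroup_dvd_card A))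
  refine hnc g (h.map_eq_of_mem h' (hR haR) ha1 (hR' ?_))
  rw [← hg]
  exact ⟨a, haR, rfl⟩

omit [Finite G] in
theorem inD_disjoint {y : G} (hy : InD A y) (hy' : InD B y) : False := by
  obtain ⟨hy1, x, hx⟩ := hy
  obtain ⟨-, x', hx'⟩ := hy'
  refine hnc (x'⁻¹ * x) (h.map_eq_of_mem h' hx (fun e => hy1 ?_) ?_)
  · calc y = x * (x⁻¹ * y * x) * x⁻¹ := by group
      _ = 1 := by rw [e]; group
  · rwa [show x'⁻¹ * x * (x⁻¹ * y * x) * (x'⁻¹ * x)⁻¹ = x'⁻¹ * y * x' by group]

end SSC

namespace SSC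

variable {A : Subgroup G} {e : ℕ} (h : SSC A e)
include h

theorem odd_orderOf (he : 2 ∣ e) {y : G} (hy : InD A y) : Odd (orderOf y) := by
  obtain ⟨-, x, hx⟩ := hy
  have e1 : orderOf (x⁻¹ * y * x) = orderOf y := by
    have := orderOf_injective (MulAut.conj x⁻¹).toMonoidHom (MulAut.conj x⁻¹).injective y
    simpa using this
  exact e1 ▸ (h.odd he).of_dvd_nat (Subgroup.orderOf_dvd_natCard A hx)

omit [Finite G] in
/-- An element commuting with a non-trivial element conjugate into `A` is conjugate into `A`. -/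
theorem inD_of_commute {x c : G} (hc : InD A c) (hx1 : x ≠ 1) (hxc : x * c = c * x) : InD A x := by
  obtain ⟨hc1, g, hg⟩ := hc
  refine ⟨hx1, g, h.mem_of_commute hg (fun e => hc1 ?_) ?_⟩
  · calc c = g * (g⁻¹ * c * g) * g⁻¹ := by group
      _ = 1 := by rw [e]; group
  · calc g⁻¹ * x * g * (g⁻¹ * c * g) = g⁻¹ * (x * c) * g := by group
      _ = g⁻¹ * (c * x) * g := by rw [hxc]
      _ = _ := by group

/-- The centraliser of an element not conjugate into `A` has order prime to `|A|`. -/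
theorem coprime_centralizer {x : G} (hx1 : x ≠ 1) (hx : ¬ InD A x) :
    Nat.Coprime (Nat.card A) (Nat.card (Subgroup.centralizer ({x} : Set G))) := by
  refine Nat.coprime_of_dvd fun r hr h1 h2 => ?_
  haveI : Fact r.Prime := ⟨hr⟩
  obtain ⟨R, hR⟩ := h.exists_sylow_le h1
  obtain ⟨c, hc⟩ := exists_prime_orderOf_dvd_card' r h2
  have hco : orderOf (c : G) = r := by rw [Subgroup.orderOf_coe, hc]
  have hp : IsPGroup r (Subgroup.zpowers (c : G)) :=
    IsPGroup.of_card (n := 1) (by rw [Nat.card_zpowers, hco, pow_one])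
  obtain ⟨R', hR'⟩ := hp.exists_le_sylow
  obtain ⟨g, hg⟩ := MulAction.exists_smul_eq G R R'
  have hcR : (c : G) ∈ ((g • R : Sylow r G) : Subgroup G) := by
    rw [hg]; exact hR' (Subgroup.mem_zpowers _)
  obtain ⟨a, ha, hga⟩ := hcR
  have hga' : g * a * g⁻¹ = (c : G) := hga
  have hc1 : (c : G) ≠ 1 := fun e => by rw [e, orderOf_one] at hco; exact hr.one_lt.ne hco
  refine hx (h.inD_of_commute ⟨hc1, g, ?_⟩ hx1
    (Subgroup.mem_centralizer_singleton_iff.1 c.2).symm)
  rw [← hga']
  have : g⁻¹ * (g * a * g⁻¹) * g = a := by group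
  rw [this]
  exact hR ha

/-- The normaliser contains an involution inverting `A`. -/
theorem exists_inverting (he : 2 ∣ e) :
    ∃ f : G, orderOf f = 2 ∧ f ∈ Subgroup.normalizer (A : Set G) ∧ f ∉ A ∧
      ∀ a ∈ A, f * a * f⁻¹ = a⁻¹ := by
  haveI : Fact (Nat.Prime 2) := ⟨Nat.prime_two⟩
  have h2 : 2 ∣ Nat.card (Subgroup.normalizer (A : Set G)) :=
    he.trans (h.idx ▸ Subgroup.relIndex_dvd_card _ _)
  obtain ⟨f, hf⟩ := exists_prime_orderOf_dvd_card' 2 h2
  have hfo : orderOf (f : G) = 2 := by rw [Subgroup.orderOf_coe, hf]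
  have hfA : (f : G) ∉ A := fun hm => by
    have := Odd.of_dvd_nat (h.odd he) (Subgroup.orderOf_dvd_natCard A hm)
    rw [hfo] at this
    exact absurd this (by decide)
  refine ⟨f, hfo, f.2, hfA, fun a ha => ?_⟩
  have hff : (f : G) * f = 1 := by rw [← pow_two, ← hfo, pow_orderOf_eq_one]
  have hfa : (f : G) * a * (f : G)⁻¹ ∈ A := (Subgroup.mem_normalizer_iff.1 f.2 a).1 ha
  set b := (f : G) * a * (f : G)⁻¹ with hb
  by_contra hne
  have hfi : (f : G)⁻¹ = f := inv_eq_of_mul_eq_one_right hff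
  refine hfA (h.mem_of_commute (mul_mem ha hfa) (fun e => hne ?_) ?_)
  · exact (inv_eq_of_mul_eq_one_right e).symm
  · rw [hfi] at hb
    calc (f : G) * (a * b) = (f : G) * a * f * (f * f * a) * f := by rw [hb, hff]; group
      _ = b * a * f := by rw [hb, hff, one_mul]
      _ = a * b * f := by rw [h.comm b hfa a ha]

/-- Index four gives an element of order four. -/
theorem exists_order_four (he : e = 4) : ∃ f : G, orderOf f = 4 := by
  by_contra hno
  push Not at hno
  have he2 : 2 ∣ e := by omega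
  obtain ⟨u, huo, hu, huA, huinv⟩ := h.exists_inverting he2
  haveI : Fact (Nat.Prime 2) := ⟨Nat.prime_two⟩
  obtain ⟨P⟩ : Nonempty (Sylow 2 (Subgroup.normalizer (A : Set G))) := inferInstance
  have hodd := h.odd he2
  have hcard : Nat.card (Subgroup.normalizer (A : Set G)) = 4 * Nat.card A := by
    rw [← he, ← h.idx, ← Subgroup.relIndex_bot_left, ← Subgroup.relIndex_bot_left A,
      mul_comm]
    exact (Subgroup.relIndex_mul_relIndex ⊥ A _ bot_le Subgroup.le_normalizer).symm
  have hP : Nat.card P = 4 := by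
    rw [P.card_eq_multiplicity, hcard, Nat.factorization_mul (by norm_num) Nat.card_pos.ne',
      Finsupp.add_apply, Nat.factorization_eq_zero_of_not_dvd (n := Nat.card A) (fun hd =>
        (Nat.not_even_iff_odd.2 hodd) (even_iff_two_dvd.2 hd)), show (4 : ℕ) = 2 ^ 2 by norm_num,
      Nat.Prime.factorization_pow Nat.prime_two]
    norm_num
  -- every non-trivial element of `P` is an involution inverting `A`
  have hinv : ∀ p : P, (((p : Subgroup.normalizer (A : Set G))) : G) ≠ 1 → ∀ a ∈ A,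
      ((p : Subgroup.normalizer (A : Set G)) : G) * a *
        (((p : Subgroup.normalizer (A : Set G))) : G)⁻¹ = a⁻¹ := by
    intro p hp1 a ha
    set g := ((p : Subgroup.normalizer (A : Set G)) : G) with hg
    have hgo : orderOf g = 2 := by
      have hd : orderOf g ∣ 4 := by
        rw [hg, Subgroup.orderOf_coe, Subgroup.orderOf_coe, ← hP]
        exact orderOf_dvd_natCard p
      have h4 := hno g
      have h1 : orderOf g ≠ 1 := fun e => hp1 (orderOf_eq_one_iff.1 e)
      have := Nat.le_of_dvd (by norm_num) hd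
      interval_cases orderOf g <;> simp_all
    have hgg : g * g = 1 := by rw [← pow_two, ← hgo, pow_orderOf_eq_one]
    have hgi : g⁻¹ = g := inv_eq_of_mul_eq_one_right hgg
    have hgA : g ∉ A := fun hm => by
      have := Odd.of_dvd_nat hodd (Subgroup.orderOf_dvd_natCard A hm)
      rw [hgo] at this
      exact absurd this (by decide)
    have hga : g * a * g⁻¹ ∈ A := (Subgroup.mem_normalizer_iff.1 p.1.2 a).1 ha
    by_contra hne
    refine hgA (h.mem_of_commute (mul_mem ha hga) (fun e => hne ?_) ?_)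
    · exact (inv_eq_of_mul_eq_one_right e).symm
    · calc g * (a * (g * a * g⁻¹)) = g * a * (g * a) * g⁻¹ := by group
        _ = g * a * g⁻¹ * (g * g * a) * g⁻¹ := by group
        _ = g * a * g⁻¹ * a * g⁻¹ := by rw [hgg, one_mul]
        _ = a * (g * a * g⁻¹) * g := by rw [h.comm _ hga a ha, hgi]
  obtain ⟨p, hp⟩ : ∃ p : P, p ≠ 1 := by
    by_contra hall
    push Not at hall
    have : Nat.card P ≤ 1 := Finite.card_le_one_iff_subsingleton.2
      ⟨fun x y => (hall x).trans (hall y).symm⟩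
    omega
  obtain ⟨q, hq1, hqp⟩ : ∃ q : P, q ≠ 1 ∧ q ≠ p := by
    by_contra hall
    push Not at hall
    classical
    letI := Fintype.ofFinite P
    have : (Finset.univ : Finset P).card ≤ ({1, p} : Finset P).card :=
      Finset.card_le_card fun x _ => by
        simp only [Finset.mem_insert, Finset.mem_singleton]
        by_cases hx : x = 1
        · exact Or.inl hx
        · exact Or.inr (hall x hx)
    rw [Finset.card_univ, ← Nat.card_eq_fintype_card, hP] at this
    exact absurd (this.trans Finset.card_le_two) (by norm_num)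
  obtain ⟨a, ha, ha1⟩ := (Subgroup.bot_or_exists_ne_one A).resolve_left h.ne_bot
  set g := ((p : Subgroup.normalizer (A : Set G)) : G) with hg
  set k := ((q : Subgroup.normalizer (A : Set G)) : G) with hk
  have hg1 : g ≠ 1 := fun e => hp (Subtype.ext (Subtype.ext e))
  have hk1 : k ≠ 1 := fun e => hq1 (Subtype.ext (Subtype.ext e))
  have e1 := hinv p hg1 a ha
  have e2 := hinv q hk1 a ha
  have hgk : k⁻¹ * g ∈ A := by
    refine h.mem_of_commute ha ha1 ?_
    rw [← hg] at e1
    rw [← hk] at e2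
    calc k⁻¹ * g * a = k⁻¹ * (g * a * g⁻¹) * g := by group
      _ = k⁻¹ * (k * a * k⁻¹) * g := by rw [e1, e2]
      _ = a * (k⁻¹ * g) := by group
  have h1 : orderOf (k⁻¹ * g) ∣ Nat.card A := Subgroup.orderOf_dvd_natCard A hgk
  have h2 : orderOf (k⁻¹ * g) ∣ 4 := by
    rw [show k⁻¹ * g = (((q⁻¹ * p : P) : Subgroup.normalizer (A : Set G)) : G) from rfl,
      Subgroup.orderOf_coe, Subgroup.orderOf_coe, ← hP]
    exact orderOf_dvd_natCard _
  have h3 : Nat.Coprime (Nat.card A) 4 :=
    Nat.Coprime.pow_right 2 (Nat.coprime_two_right.2 hodd)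
  have := orderOf_eq_one_iff.1 (Nat.eq_one_of_dvd_coprimes h3 h1 h2)
  exact hqp (Subtype.ext (Subtype.ext (inv_mul_eq_one.1 this)))

end SSC

end CfsgLib.Recognition.SelfCentSystem
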